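import Mathlib

/-!
# Transvections of `SL ι F` in coordinate-free form (helper118)

`Tr u φ = 1 + u φ` (`φ(u) = 0`); all non-trivial transvections are conjugate if `3 ≤ card ι`;
the embedding of `SL {j // j ≠ a}`.
-/

set_option autoImplicit false
set_option linter.unusedSectionVars false

namespace Cfsg.Agent.H118.SLTrans

open Matrix

variable {ι F : Type*} [Field F] [DecidableEq ι] [Fintype ι]

theorem det_one_add_vecMulVec (u φ : ι → F) : (1 + vecMulVec u φ).det = 1 + φ ⬝ᵥ u := by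
  rw [vecMulVec_eq Unit, det_one_add_replicateCol_mul_replicateRow]

theorem slext {A B : SpecialLinearGroup ι F} (h : A.1 = B.1) : A = B := Subtype.ext h

theorem mulv (A B : SpecialLinearGroup ι F) : (A * B).1 = A.1 * B.1 := rfl

/-- The transvection `1 + u φ`. -/
def Tr' (u φ : ι → F) (h : φ ⬝ᵥ u = 0) : SpecialLinearGroup ι F :=
  ⟨1 + vecMulVec u φ, by rw [det_one_add_vecMulVec, h, add_zero]⟩

open Classical in
/-- The transvection `1 + u φ` (`1` if `φ(u) ≠ 0`). -/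
noncomputable def Tr (u φ : ι → F) : SpecialLinearGroup ι F :=
  if h : φ ⬝ᵥ u = 0 then Tr' u φ h else 1

theorem Tr_val {u φ : ι → F} (h : φ ⬝ᵥ u = 0) : (Tr u φ).1 = 1 + vecMulVec u φ := by
  have : Tr u φ = Tr' u φ h := dif_pos h
  rw [this]; rfl

theorem Tr_apply {u φ : ι → F} (h : φ ⬝ᵥ u = 0) (i j : ι) : (Tr u φ).1 i j = (1 : Matrix ι ι F) i j + u i * φ j := by
  rw [Tr_val h]; rfl

theorem vecMulVec_mul_self {u φ φ' : ι → F} {u' : ι → F} (h : φ ⬝ᵥ u' = 0) :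
    vecMulVec u φ * vecMulVec u' φ' = 0 := by
  rw [vecMulVec_mul_vecMulVec, h, zero_smul]
  ext i j
  simp [vecMulVec_apply]

theorem Tr_mul {u φ φ' : ι → F} (h : φ ⬝ᵥ u = 0) (h' : φ' ⬝ᵥ u = 0) : Tr u φ * Tr u φ' = Tr u (φ + φ') := by
  apply slext
  have h'' : (φ + φ') ⬝ᵥ u = 0 := by rw [add_dotProduct, h, h', add_zero]
  rw [mulv, Tr_val h, Tr_val h', Tr_val h'', add_mul, mul_add, mul_add, vecMulVec_mul_self h,
    vecMulVec_add]
  simp only [one_mul, mul_one, add_zero]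
  abel

theorem Tr_mul' {u u' φ : ι → F} (h : φ ⬝ᵥ u = 0) (h' : φ ⬝ᵥ u' = 0) : Tr u φ * Tr u' φ = Tr (u + u') φ := by
  apply slext
  have h'' : φ ⬝ᵥ (u + u') = 0 := by rw [dotProduct_add, h, h', add_zero]
  rw [mulv, Tr_val h, Tr_val h', Tr_val h'', add_mul, mul_add, mul_add, vecMulVec_mul_self h',
    add_vecMulVec]
  simp only [one_mul, mul_one, add_zero]
  abel

theorem Tr_zero (u : ι → F) : Tr u 0 = 1 := by
  apply slext
  rw [Tr_val (zero_dotProduct u)]
  ext i j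
  simp

theorem Tr_zero' (φ : ι → F) : Tr 0 φ = 1 := by
  apply slext
  rw [Tr_val (dotProduct_zero φ)]
  ext i j
  simp

theorem Tr_neg {u φ : ι → F} (h : φ ⬝ᵥ u = 0) : Tr u (-φ) = (Tr u φ)⁻¹ := by
  rw [eq_inv_iff_mul_eq_one, Tr_mul (by rw [neg_dotProduct, h, neg_zero]) h, neg_add_cancel, Tr_zero]

theorem Tr_neg' {u φ : ι → F} (h : φ ⬝ᵥ u = 0) : Tr (-u) φ = (Tr u φ)⁻¹ := by
  rw [eq_inv_iff_mul_eq_one, Tr_mul' (by rw [dotProduct_neg, h, neg_zero]) h, neg_add_cancel, Tr_zero']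

theorem Tr_smul (s : F) (u φ : ι → F) : Tr (s • u) φ = Tr u (s • φ) := by
  by_cases hs : s = 0
  · subst hs
    rw [zero_smul, zero_smul, Tr_zero, Tr_zero']
  by_cases h : φ ⬝ᵥ u = 0
  · apply slext
    rw [Tr_val (by rw [dotProduct_smul, h, smul_zero]), Tr_val (by rw [smul_dotProduct, h, smul_zero])]
    ext i j
    simp [vecMulVec_apply]
  · have h1 : ¬ φ ⬝ᵥ (s • u) = 0 := by
      rw [dotProduct_smul, smul_eq_zero]
      rintro (h1 | h1)
      · exact hs h1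
      · exact h h1
    have h2 : ¬ (s • φ) ⬝ᵥ u = 0 := by
      rw [smul_dotProduct, smul_eq_zero]
      rintro (h1 | h1)
      · exact hs h1
      · exact h h1
    rw [Tr, Tr, dif_neg h1, dif_neg h2]

theorem Tr_mulVec {u φ : ι → F} (h : φ ⬝ᵥ u = 0) (v : ι → F) : (Tr u φ).1 *ᵥ v = v + (φ ⬝ᵥ v) • u := by
  rw [Tr_val h, add_mulVec, one_mulVec, vecMulVec_mulVec]
  congr 1
  funext i
  simp [mul_comm]

theorem vecMul_Tr {u φ : ι → F} (h : φ ⬝ᵥ u = 0) (ψ : ι → F) : ψ ᵥ* (Tr u φ).1 = ψ + (ψ ⬝ᵥ u) • φ := by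
  rw [Tr_val h, vecMul_add, vecMul_one, vecMul_vecMulVec]

theorem coe_inv_mul (g : SpecialLinearGroup ι F) : (g⁻¹).1 * g.1 = 1 :=
  congrArg (fun g : SpecialLinearGroup ι F => g.1) (inv_mul_cancel g)

theorem coe_mul_inv (g : SpecialLinearGroup ι F) : g.1 * (g⁻¹).1 = 1 :=
  congrArg (fun g : SpecialLinearGroup ι F => g.1) (mul_inv_cancel g)

theorem inv_dot (g : SpecialLinearGroup ι F) (φ u : ι → F) : (φ ᵥ* (g⁻¹).1) ⬝ᵥ (g.1 *ᵥ u) = φ ⬝ᵥ u := by
  rw [← dotProduct_mulVec, mulVec_mulVec, coe_inv_mul, one_mulVec]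

/-- Conjugation. -/
theorem conj_Tr (g : SpecialLinearGroup ι F) {u φ : ι → F} (h : φ ⬝ᵥ u = 0) :
    g * Tr u φ * g⁻¹ = Tr (g.1 *ᵥ u) (φ ᵥ* (g⁻¹).1) := by
  apply slext
  have h' : (φ ᵥ* (g⁻¹).1) ⬝ᵥ (g.1 *ᵥ u) = 0 := by rw [inv_dot, h]
  rw [mulv, mulv, Tr_val h, Tr_val h', mul_add, mul_one, add_mul,
    coe_mul_inv, mul_vecMulVec, vecMulVec_mul]

/-- Conjugation of a transvection by a transvection. -/
theorem conj_Tr_Tr {w ψ u φ : ι → F} (h0 : ψ ⬝ᵥ w = 0) (h : φ ⬝ᵥ u = 0) :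
    Tr w ψ * Tr u φ * (Tr w ψ)⁻¹ = Tr (u + (ψ ⬝ᵥ u) • w) (φ - (φ ⬝ᵥ w) • ψ) := by
  rw [conj_Tr _ h, Tr_mulVec h0, ← Tr_neg h0, vecMul_Tr (by rw [neg_dotProduct, h0, neg_zero]), smul_neg,
    sub_eq_add_neg]

theorem Tr_ne_one {u φ : ι → F} (h : φ ⬝ᵥ u = 0) (hu : u ≠ 0) (hφ : φ ≠ 0) : Tr u φ ≠ 1 := by
  obtain ⟨i, hi⟩ := Function.ne_iff.1 hu
  obtain ⟨j, hj⟩ := Function.ne_iff.1 hφ
  intro he
  have := congrArg (fun g : SpecialLinearGroup ι F => g.1 i j) he
  simp only [Tr_apply h] at this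
  have h2 : (1 : Matrix ι ι F) i j + u i * φ j = (1 : Matrix ι ι F) i j := this
  have h3 : u i * φ j = 0 := by simpa using h2
  exact mul_ne_zero hi hj h3

/-- If two non-zero transvections are equal the vectors are proportional. -/
theorem Tr_eq_iff {u φ u' φ' : ι → F} (h : φ ⬝ᵥ u = 0) (hu : u ≠ 0) (hφ : φ ≠ 0) (h' : φ' ⬝ᵥ u' = 0) :
    Tr u φ = Tr u' φ' ↔ ∃ s : Fˣ, u' = (s : F) • u ∧ φ' = ((s⁻¹ : Fˣ) : F) • φ := by
  constructor
  · intro he
    obtain ⟨i, hi⟩ := Function.ne_iff.1 hu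
    obtain ⟨j, hj⟩ := Function.ne_iff.1 hφ
    have key : ∀ k l, u k * φ l = u' k * φ' l := by
      intro k l
      have := congrArg (fun g : SpecialLinearGroup ι F => g.1 k l) he
      simp only [Tr_apply h, Tr_apply h'] at this
      exact add_left_cancel this
    have hi : u i ≠ 0 := hi
    have hj : φ j ≠ 0 := hj
    have h1 : u' i * φ' j ≠ 0 := by rw [← key]; exact mul_ne_zero hi hj
    have hj' : φ' j ≠ 0 := right_ne_zero_of_mul h1
    have hi' : u' i ≠ 0 := left_ne_zero_of_mul h1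
    -- u' k = (φ j / φ' j) u k
    refine ⟨Units.mk0 (φ j / φ' j) (div_ne_zero hj hj'), ?_, ?_⟩
    · funext k
      rw [Pi.smul_apply, smul_eq_mul, Units.val_mk0]
      field_simp
      rw [← key k j]
      ring
    · funext l
      rw [Pi.smul_apply, smul_eq_mul, Units.val_inv_eq_inv_val, Units.val_mk0, inv_div]
      have h2 := key i l
      have h3 := key i j
      field_simp
      have h4 : u i * (φ' l * φ j) = u i * (φ' j * φ l) := by
        calc u i * (φ' l * φ j) = (u i * φ j) * φ' l := by ring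
          _ = (u' i * φ' j) * φ' l := by rw [h3]
          _ = (u' i * φ' l) * φ' j := by ring
          _ = (u i * φ l) * φ' j := by rw [h2]
          _ = u i * (φ' j * φ l) := by ring
      exact mul_left_cancel₀ hi h4
  · rintro ⟨s, rfl, rfl⟩
    rw [Tr_smul, smul_smul]
    simp

/-! ### Conjugacy -/

/-- Two vectors which are not proportional (a non-zero `2 × 2` minor). -/
def NP (φ φ' : ι → F) : Prop := ∃ i j, φ i * φ' j - φ j * φ' i ≠ 0

theorem NP.exists_eq_one {φ φ' : ι → F} (h : NP φ φ') : ∃ w : ι → F, φ ⬝ᵥ w = 1 ∧ φ' ⬝ᵥ w = 1 := by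
  obtain ⟨i, j, hij⟩ := h
  set D := φ i * φ' j - φ j * φ' i with hD
  refine ⟨Pi.single i ((φ' j - φ j) / D) + Pi.single j ((φ i - φ' i) / D), ?_, ?_⟩
  · rw [dotProduct_add, dotProduct_single, dotProduct_single]
    field_simp
    rw [hD]; ring
  · rw [dotProduct_add, dotProduct_single, dotProduct_single]
    field_simp
    rw [hD]; ring

theorem isConj_of_NP {u φ φ' : ι → F} (h : φ ⬝ᵥ u = 0) (h' : φ' ⬝ᵥ u = 0) (hn : NP φ φ') :
    IsConj (Tr u φ) (Tr u φ') := by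
  obtain ⟨w, hw, hw'⟩ := hn.exists_eq_one
  rw [isConj_iff]
  refine ⟨Tr w (φ - φ'), ?_⟩
  rw [conj_Tr_Tr (by rw [sub_dotProduct, hw, hw', sub_self]) h, sub_dotProduct, h, h', hw]
  congr 1
  · simp
  · simp

theorem isConj_of_NP' {u u' φ : ι → F} (h : φ ⬝ᵥ u = 0) (h' : φ ⬝ᵥ u' = 0) (hn : NP u u') :
    IsConj (Tr u φ) (Tr u' φ) := by
  obtain ⟨w, hw, hw'⟩ := hn.exists_eq_one
  rw [isConj_iff]
  refine ⟨Tr (u' - u) w, ?_⟩
  rw [conj_Tr_Tr (by rw [dotProduct_comm, sub_dotProduct, hw, hw', sub_self]) h, dotProduct_sub, h, h',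
    dotProduct_comm w u, hw]
  congr 1
  · simp
  · simp

theorem exists_NP {u φ : ι → F} (h3 : 3 ≤ Fintype.card ι) (hφ : φ ≠ 0) :
    ∃ φ' : ι → F, φ' ⬝ᵥ u = 0 ∧ NP φ φ' := by
  by_cases hu : u = 0
  · obtain ⟨i, hi⟩ := Function.ne_iff.1 hφ
    obtain ⟨j, hj⟩ : ∃ j, j ≠ i := by
      have : Nontrivial ι := Fintype.one_lt_card_iff_nontrivial.1 (by omega)
      exact exists_ne i
    refine ⟨Pi.single j 1, by rw [hu, dotProduct_zero], i, j, ?_⟩
    rw [Pi.single_eq_same, Pi.single_eq_of_ne hj.symm]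
    simpa using hi
  obtain ⟨i, hi⟩ := Function.ne_iff.1 hu
  have hi : u i ≠ 0 := hi
  have hcard : 2 ≤ (Finset.univ.erase i).card := by
    rw [Finset.card_erase_of_mem (Finset.mem_univ _), Finset.card_univ]; omega
  obtain ⟨j, hj, k, hk, hjk⟩ := Finset.one_lt_card.1 hcard
  have hji : j ≠ i := Finset.ne_of_mem_erase hj
  have hki : k ≠ i := Finset.ne_of_mem_erase hk
  -- the two vectors `u i e_j - u j e_i`, `u i e_k - u k e_i`
  have hp : ∀ l, l ≠ i → (Pi.single l (u i) - Pi.single i (u l) : ι → F) ⬝ᵥ u = 0 := by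
    intro l hl
    rw [sub_dotProduct, single_dotProduct, single_dotProduct]; ring
  by_cases h1 : NP φ (Pi.single j (u i) - Pi.single i (u j))
  · exact ⟨_, hp j hji, h1⟩
  · refine ⟨_, hp k hki, ?_⟩
    unfold NP at h1 ⊢
    push Not at h1
    -- from `h1 k j`: φ k = 0
    have h2 : φ k = 0 := by
      have := h1 k j
      rw [Pi.sub_apply, Pi.sub_apply, Pi.single_eq_same, Pi.single_eq_of_ne hji, Pi.single_eq_of_ne hjk.symm,
        Pi.single_eq_of_ne hki] at this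
      simp only [sub_zero, mul_zero] at this
      exact (mul_eq_zero.1 this).resolve_right hi
    by_cases h3 : φ j = 0
    · -- then φ i ≠ 0 or another index
      obtain ⟨l, hl⟩ := Function.ne_iff.1 hφ
      have hl : φ l ≠ 0 := hl
      have hlk : l ≠ k := fun h => hl (by rw [h, h2])
      by_cases hli : l = i
      · refine ⟨i, k, ?_⟩
        rw [Pi.sub_apply, Pi.sub_apply, Pi.single_eq_same, Pi.single_eq_same, Pi.single_eq_of_ne hki,
          Pi.single_eq_of_ne hki.symm, h2]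
        rw [hli] at hl
        simpa using ⟨hl, hi⟩
      · refine ⟨l, k, ?_⟩
        rw [Pi.sub_apply, Pi.sub_apply, Pi.single_eq_same, Pi.single_eq_of_ne hki,
          Pi.single_eq_of_ne hlk, Pi.single_eq_of_ne hli, h2]
        simpa using ⟨hl, hi⟩
    · refine ⟨j, k, ?_⟩
      rw [Pi.sub_apply, Pi.sub_apply, Pi.single_eq_same, Pi.single_eq_of_ne hki, Pi.single_eq_of_ne hjk,
        Pi.single_eq_of_ne hji, h2]
      simpa using ⟨h3, hi⟩

theorem not_NP {φ φ' : ι → F} (hφ : φ ≠ 0) (h : ¬ NP φ φ') : ∃ s : F, φ' = s • φ := by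
  obtain ⟨i, hi⟩ := Function.ne_iff.1 hφ
  have hi : φ i ≠ 0 := hi
  unfold NP at h
  push Not at h
  refine ⟨φ' i / φ i, ?_⟩
  funext j
  have := h i j
  rw [Pi.smul_apply, smul_eq_mul]
  field_simp
  linear_combination this

theorem NP_smul {φ φ' : ι → F} {s : F} (hs : s ≠ 0) (h : NP φ φ') : NP (s • φ) φ' := by
  obtain ⟨i, j, hij⟩ := h
  refine ⟨i, j, ?_⟩
  rw [Pi.smul_apply, Pi.smul_apply, smul_eq_mul, smul_eq_mul]
  have : s * φ i * φ' j - s * φ j * φ' i = s * (φ i * φ' j - φ j * φ' i) := by ring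
  rw [this]
  exact mul_ne_zero hs hij

theorem NP.symm {φ φ' : ι → F} (h : NP φ φ') : NP φ' φ := by
  obtain ⟨i, j, hij⟩ := h
  refine ⟨i, j, ?_⟩
  intro h
  apply hij
  linear_combination -h

theorem isConj_row (h3 : 3 ≤ Fintype.card ι) {u φ φ' : ι → F} (h : φ ⬝ᵥ u = 0) (h' : φ' ⬝ᵥ u = 0)
    (hφ : φ ≠ 0) (hφ' : φ' ≠ 0) : IsConj (Tr u φ) (Tr u φ') := by
  by_cases hn : NP φ φ'
  · exact isConj_of_NP h h' hn
  · obtain ⟨s, rfl⟩ := not_NP hφ hn
    have hs : s ≠ 0 := by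
      rintro rfl
      exact hφ' (zero_smul _ _)
    obtain ⟨ψ, hψ, hψn⟩ := exists_NP (u := u) h3 hφ
    exact (isConj_of_NP h hψ hψn).trans (isConj_of_NP hψ h' (NP_smul hs hψn).symm)

theorem isConj_col (h3 : 3 ≤ Fintype.card ι) {u u' φ : ι → F} (h : φ ⬝ᵥ u = 0) (h' : φ ⬝ᵥ u' = 0)
    (hu : u ≠ 0) (hu' : u' ≠ 0) : IsConj (Tr u φ) (Tr u' φ) := by
  by_cases hn : NP u u'
  · exact isConj_of_NP' h h' hn
  · obtain ⟨s, rfl⟩ := not_NP hu hn
    have hs : s ≠ 0 := by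
      rintro rfl
      exact hu' (zero_smul _ _)
    obtain ⟨ψ, hψ, hψn⟩ := exists_NP (u := φ) h3 hu
    rw [dotProduct_comm] at hψ
    exact (isConj_of_NP' h hψ hψn).trans (isConj_of_NP' hψ h' (NP_smul hs hψn).symm)

/-- A non-zero form vanishing at two given vectors. -/
theorem exists_form (h3 : 3 ≤ Fintype.card ι) (u u' : ι → F) : ∃ ψ : ι → F, ψ ≠ 0 ∧ ψ ⬝ᵥ u = 0 ∧ ψ ⬝ᵥ u' = 0 := by
  -- the linear map `ψ ↦ (ψ u, ψ u')` has a kernel
  let f : (ι → F) →ₗ[F] (Fin 2 → F) :=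
    { toFun := fun ψ => ![ψ ⬝ᵥ u, ψ ⬝ᵥ u']
      map_add' := by
        intro x y
        ext i
        fin_cases i <;> simp [add_dotProduct]
      map_smul' := by
        intro s x
        ext i
        fin_cases i <;> simp [smul_dotProduct] }
  have hk : LinearMap.ker f ≠ ⊥ := by
    intro hk
    have := LinearMap.finrank_le_finrank_of_injective (LinearMap.ker_eq_bot.1 hk)
    rw [Module.finrank_fintype_fun_eq_card, Module.finrank_fintype_fun_eq_card, Fintype.card_fin] at this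
    omega
  obtain ⟨ψ, hψ, hψ0⟩ := (Submodule.ne_bot_iff _).1 hk
  rw [LinearMap.mem_ker] at hψ
  refine ⟨ψ, hψ0, ?_, ?_⟩
  · exact congrFun hψ 0
  · exact congrFun hψ 1

/-- **All non-trivial transvections are conjugate in `SL ι F`, `3 ≤ card ι`.** -/
theorem isConj_Tr (h3 : 3 ≤ Fintype.card ι) {u φ u' φ' : ι → F} (h : φ ⬝ᵥ u = 0) (h' : φ' ⬝ᵥ u' = 0)
    (hu : u ≠ 0) (hφ : φ ≠ 0) (hu' : u' ≠ 0) (hφ' : φ' ≠ 0) : IsConj (Tr u φ) (Tr u' φ') := by
  obtain ⟨ψ, hψ0, hψ, hψ'⟩ := exists_form h3 u u'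
  exact ((isConj_row h3 h hψ hφ hψ0).trans (isConj_col h3 hψ hψ' hu hu')).trans (isConj_row h3 hψ' h' hψ0 hφ')

/-! ### The embedding of the block -/

section Emb

variable (p : ι → Prop) [DecidablePred p]

/-- The block matrix `D ⊕ 1`. -/
def embM (D : Matrix {i // p i} {i // p i} F) : Matrix ι ι F :=
  (fromBlocks D 0 0 (1 : Matrix {i // ¬ p i} {i // ¬ p i} F)).submatrix (Equiv.sumCompl p).symm (Equiv.sumCompl p).symm

theorem embM_mul (D D' : Matrix {i // p i} {i // p i} F) : embM p (D * D') = embM p D * embM p D' := by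
  unfold embM
  rw [submatrix_mul_equiv, fromBlocks_multiply]
  simp

theorem embM_one : embM p (1 : Matrix {i // p i} {i // p i} F) = 1 := by
  unfold embM
  rw [fromBlocks_one, submatrix_one_equiv]

theorem det_embM (D : Matrix {i // p i} {i // p i} F) : (embM p D).det = D.det := by
  unfold embM
  rw [det_submatrix_equiv_self, det_fromBlocks_zero₂₁, det_one, mul_one]

theorem embM_apply (D : Matrix {i // p i} {i // p i} F) (i j : ι) :
    embM p D i j = if h : p i ∧ p j then D ⟨i, h.1⟩ ⟨j, h.2⟩ else (1 : Matrix ι ι F) i j := by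
  unfold embM
  rw [submatrix_apply]
  by_cases hi : p i <;> by_cases hj : p j
  · rw [Equiv.sumCompl_symm_apply_of_pos hi, Equiv.sumCompl_symm_apply_of_pos hj, fromBlocks_apply₁₁, dif_pos ⟨hi, hj⟩]
  · rw [Equiv.sumCompl_symm_apply_of_pos hi, Equiv.sumCompl_symm_apply_of_neg hj, fromBlocks_apply₁₂,
      dif_neg (fun h => hj h.2), one_apply_ne]
    · rfl
    · rintro rfl; exact hj hi
  · rw [Equiv.sumCompl_symm_apply_of_neg hi, Equiv.sumCompl_symm_apply_of_pos hj, fromBlocks_apply₂₁,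
      dif_neg (fun h => hi h.1), one_apply_ne]
    · rfl
    · rintro rfl; exact hi hj
  · rw [Equiv.sumCompl_symm_apply_of_neg hi, Equiv.sumCompl_symm_apply_of_neg hj, fromBlocks_apply₂₂,
      dif_neg (fun h => hi h.1)]
    by_cases hij : i = j
    · subst hij; rw [one_apply_eq, one_apply_eq]
    · rw [one_apply_ne hij, one_apply_ne]
      intro h; exact hij (congrArg Subtype.val h)

/-- The embedding of `SL` of a block. -/
def emb : SpecialLinearGroup {i // p i} F →* SpecialLinearGroup ι F where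
  toFun D := ⟨embM p D.1, by rw [det_embM, D.2]⟩
  map_one' := Subtype.ext (embM_one p)
  map_mul' D D' := Subtype.ext (embM_mul p D.1 D'.1)

theorem emb_val (D : SpecialLinearGroup {i // p i} F) : (emb p D).1 = embM p D.1 := rfl

/-- Extension of a vector by zero. -/
def ex (u : {i // p i} → F) : ι → F := fun i => if h : p i then u ⟨i, h⟩ else 0

theorem ex_apply (u : {i // p i} → F) (i : ι) : ex p u i = if h : p i then u ⟨i, h⟩ else 0 := rfl

theorem ex_of_pos (u : {i // p i} → F) {i : ι} (h : p i) : ex p u i = u ⟨i, h⟩ := dif_pos h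

theorem ex_of_neg (u : {i // p i} → F) {i : ι} (h : ¬ p i) : ex p u i = 0 := dif_neg h

theorem ex_add (u v : {i // p i} → F) : ex p (u + v) = ex p u + ex p v := by
  funext i
  by_cases h : p i
  · rw [Pi.add_apply, ex_of_pos p _ h, ex_of_pos p _ h, ex_of_pos p _ h, Pi.add_apply]
  · rw [Pi.add_apply, ex_of_neg p _ h, ex_of_neg p _ h, ex_of_neg p _ h, add_zero]

theorem ex_zero : ex p (0 : {i // p i} → F) = 0 := by
  funext i
  by_cases h : p i
  · rw [ex_of_pos p _ h]; rfl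
  · rw [ex_of_neg p _ h]; rfl

theorem ex_neg (u : {i // p i} → F) : ex p (-u) = -ex p u := by
  funext i
  by_cases h : p i
  · rw [Pi.neg_apply, ex_of_pos p _ h, ex_of_pos p _ h, Pi.neg_apply]
  · rw [Pi.neg_apply, ex_of_neg p _ h, ex_of_neg p _ h, neg_zero]

theorem ex_injective : Function.Injective (ex p : ({i // p i} → F) → (ι → F)) := by
  intro u v h
  funext i
  have := congrFun h i.1
  rwa [ex_of_pos p _ i.2, ex_of_pos p _ i.2] at this

theorem ex_ne_zero {u : {i // p i} → F} (hu : u ≠ 0) : ex p u ≠ 0 := fun h =>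
  hu (ex_injective p (h.trans (ex_zero p).symm))

theorem exists_ex {v : ι → F} (hv : ∀ i, ¬ p i → v i = 0) : ∃ u : {i // p i} → F, ex p u = v := by
  refine ⟨fun i => v i.1, ?_⟩
  funext i
  by_cases h : p i
  · rw [ex_of_pos p _ h]
  · rw [ex_of_neg p _ h, hv i h]

theorem ex_single {i : ι} (hi : p i) (s : F) : ex p (Pi.single ⟨i, hi⟩ s) = Pi.single i s := by
  funext j
  by_cases h : p j
  · rw [ex_of_pos p _ h]
    by_cases hij : j = i
    · subst hij; rw [Pi.single_eq_same, Pi.single_eq_same]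
    · rw [Pi.single_eq_of_ne hij, Pi.single_eq_of_ne]
      intro h; exact hij (congrArg Subtype.val h)
  · rw [ex_of_neg p _ h, Pi.single_eq_of_ne]
    rintro rfl
    exact h hi

theorem ex_dot (u v : {i // p i} → F) : ex p u ⬝ᵥ ex p v = u ⬝ᵥ v := by
  unfold dotProduct
  have h1 : ∀ i, ex p u i * ex p v i = if h : p i then u ⟨i, h⟩ * v ⟨i, h⟩ else 0 := by
    intro i
    by_cases h : p i
    · rw [ex_of_pos p _ h, ex_of_pos p _ h, dif_pos h]
    · rw [ex_of_neg p _ h, dif_neg h, zero_mul]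
  rw [Finset.sum_congr rfl (fun i _ => h1 i), Finset.sum_dite, Finset.sum_const_zero, add_zero]
  refine Finset.sum_bij (fun x _ => ⟨x.1, (Finset.mem_filter.1 x.2).2⟩) ?_ ?_ ?_ ?_
  · intro a _; exact Finset.mem_univ _
  · intro a _ b _ h; exact Subtype.ext (congrArg (fun z : {i // p i} => z.1) h)
  · intro b _
    exact ⟨⟨b.1, Finset.mem_filter.2 ⟨Finset.mem_univ _, b.2⟩⟩, Finset.mem_attach _ _, rfl⟩
  · intro a _; rfl

theorem emb_Tr {u φ : {i // p i} → F} (h : φ ⬝ᵥ u = 0) : emb p (Tr u φ) = Tr (ex p u) (ex p φ) := by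
  apply slext
  have h' : ex p φ ⬝ᵥ ex p u = 0 := by rw [ex_dot, h]
  rw [Tr_val h']
  ext k l
  rw [emb_val, embM_apply]
  simp only [Matrix.add_apply, vecMulVec_apply]
  by_cases hk : p k <;> by_cases hl : p l
  · rw [dif_pos ⟨hk, hl⟩, ex_of_pos p _ hk, ex_of_pos p _ hl, Tr_apply h]
    congr 1
    by_cases hkl : k = l
    · subst hkl; rw [one_apply_eq, one_apply_eq]
    · rw [one_apply_ne hkl, one_apply_ne]
      intro h; exact hkl (congrArg Subtype.val h)
  · rw [dif_neg (fun h => hl h.2), ex_of_neg p _ hl, mul_zero, add_zero]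
  · rw [dif_neg (fun h => hk h.1), ex_of_neg p _ hk, zero_mul, add_zero]
  · rw [dif_neg (fun h => hk h.1), ex_of_neg p _ hk, zero_mul, add_zero]

theorem emb_mulVec_single (D : SpecialLinearGroup {i // p i} F) {a : ι} (ha : ¬ p a) :
    (emb p D).1 *ᵥ (Pi.single a 1 : ι → F) = Pi.single a 1 := by
  rw [mulVec_single_one]
  funext i
  rw [col_apply, emb_val, embM_apply, dif_neg (fun h => ha h.2)]
  by_cases h : i = a
  · subst h; rw [one_apply_eq, Pi.single_eq_same]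
  · rw [one_apply_ne h, Pi.single_eq_of_ne h]

theorem vecMul_emb_apply (D : SpecialLinearGroup {i // p i} F) {a : ι} (ha : ¬ p a) (φ : ι → F) :
    (φ ᵥ* (emb p D).1) a = φ a := by
  have h1 : (φ ᵥ* (emb p D).1) a = (φ ᵥ* (emb p D).1) ⬝ᵥ (Pi.single a 1) := by
    rw [dotProduct_single, mul_one]
  rw [h1, ← dotProduct_mulVec, emb_mulVec_single p D ha, dotProduct_single, mul_one]

end Emb

end Cfsg.Agent.H118.SLTrans
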