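import Mathlib

/-!
# Weight spaces of an abelian subgroup in a complex representation (helper118)
-/

set_option autoImplicit false
set_option linter.unusedSectionVars false

namespace Cfsg.Agent.H118.Eig

open Module

variable {G V A : Type*} [Group G] [AddCommGroup V] [Module ℂ V] [AddCommGroup A] [Fintype A]

/-- The weight space. -/
def eig (ρ : Representation ℂ G V) (f : A → G) (μ : A → ℂ) : Submodule ℂ V where
  carrier := {v | ∀ x, ρ (f x) v = μ x • v}
  zero_mem' := fun x => by rw [map_zero, smul_zero]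
  add_mem' := fun {v w} hv hw x => by rw [map_add, hv x, hw x, smul_add]
  smul_mem' := fun c v hv x => by rw [map_smul, hv x, smul_comm]

theorem mem_eig {ρ : Representation ℂ G V} {f : A → G} {μ : A → ℂ} {v : V} :
    v ∈ eig ρ f μ ↔ ∀ x, ρ (f x) v = μ x • v := Iff.rfl

/-- The twisted representation. -/
def tw (ρ : Representation ℂ G V) (f : A → G) (hf : ∀ x y, f (x + y) = f x * f y) (μ : AddChar A ℂ) :
    Representation ℂ (Multiplicative A) V where
  toFun x := μ (-x.toAdd) • ρ (f x.toAdd)
  map_one' := by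
    have h0 : f 0 = 1 := by
      have := hf 0 0
      rw [add_zero] at this
      exact left_eq_mul.1 this
    rw [toAdd_one, neg_zero, AddChar.map_zero_eq_one, h0, map_one, one_smul]
  map_mul' x y := by
    rw [toAdd_mul, hf, map_mul, neg_add, AddChar.map_add_eq_mul, smul_mul_smul_comm]

theorem finrank_eig [FiniteDimensional ℂ V] (ρ : Representation ℂ G V) (f : A → G)
    (hf : ∀ x y, f (x + y) = f x * f y) (μ : AddChar A ℂ) :
    (Fintype.card A : ℂ) * (finrank ℂ (eig ρ f μ) : ℂ) = ∑ x, μ (-x) * ρ.character (f x) := by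
  have hinv : (tw ρ f hf μ).invariants = eig ρ f μ := by
    ext v
    rw [Representation.mem_invariants, mem_eig]
    constructor
    · intro h x
      have h1 := h (Multiplicative.ofAdd x)
      change μ (-x) • ρ (f x) v = v at h1
      conv_rhs => rw [← h1]
      rw [smul_smul, ← AddChar.map_add_eq_mul, add_neg_cancel, AddChar.map_zero_eq_one, one_smul]
    · intro h x
      change μ (-x.toAdd) • ρ (f x.toAdd) v = v
      rw [h x.toAdd, smul_smul, ← AddChar.map_add_eq_mul, neg_add_cancel, AddChar.map_zero_eq_one, one_smul]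
  have hc : (Nat.card (Multiplicative A) : ℂ) ≠ 0 := by
    rw [Nat.card_eq_fintype_card]
    exact_mod_cast Fintype.card_ne_zero
  have : Invertible (Nat.card (Multiplicative A) : ℂ) := invertibleOfNonzero hc
  have h := Representation.card_inv_mul_sum_char_eq_finrank (tw ρ f hf μ)
  rw [hinv] at h
  rw [← h]
  have h2 : (Nat.card (Multiplicative A) : ℂ) = (Fintype.card A : ℂ) := by
    rw [Nat.card_eq_fintype_card, Fintype.card_multiplicative]
  rw [h2] at hc ⊢
  rw [mul_inv_cancel_left₀ hc]
  refine Fintype.sum_equiv Multiplicative.toAdd _ _ (fun x => ?_)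
  change LinearMap.trace ℂ V (μ (-x.toAdd) • ρ (f x.toAdd)) = _
  rw [map_smul, smul_eq_mul]
  rfl

/-- A nontrivial weight. -/
theorem finrank_eig_of_const [FiniteDimensional ℂ V] (ρ : Representation ℂ G V) (f : A → G)
    (hf : ∀ x y, f (x + y) = f x * f y) (μ : AddChar A ℂ) (hμ : μ ≠ 1) {τ : ℂ}
    (hτ : ∀ x, x ≠ 0 → ρ.character (f x) = τ) :
    (Fintype.card A : ℂ) * (finrank ℂ (eig ρ f μ) : ℂ) = (finrank ℂ V : ℂ) - τ := by
  classical
  rw [finrank_eig ρ f hf μ]
  have h0 : f 0 = 1 := by
    have := hf 0 0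
    rw [add_zero] at this
    exact left_eq_mul.1 this
  have h1 : ∀ x, μ (-x) * ρ.character (f x) = μ (-x) * τ + if x = 0 then ((finrank ℂ V : ℂ) - τ) else 0 := by
    intro x
    by_cases hx : x = 0
    · subst hx
      rw [if_pos rfl, h0, Representation.char_one, neg_zero, AddChar.map_zero_eq_one]
      ring
    · rw [if_neg hx, hτ x hx, add_zero]
  rw [Finset.sum_congr rfl (fun x _ => h1 x), Finset.sum_add_distrib, ← Finset.sum_mul, Finset.sum_ite_eq']
  have h2 : ∑ x, μ (-x) = 0 := by
    have h3 : ∑ x, μ (-x) = ∑ x, μ x := Fintype.sum_equiv (Equiv.neg A) _ _ (fun x => rfl)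
    rw [h3]
    exact AddChar.sum_eq_zero_of_ne_one hμ
  rw [h2]
  simp

/-- The trivial weight. -/
theorem finrank_fix_of_const [FiniteDimensional ℂ V] (ρ : Representation ℂ G V) (f : A → G)
    (hf : ∀ x y, f (x + y) = f x * f y) {τ : ℂ}
    (hτ : ∀ x, x ≠ 0 → ρ.character (f x) = τ) :
    (Fintype.card A : ℂ) * (finrank ℂ (eig ρ f 1) : ℂ) = (finrank ℂ V : ℂ) + ((Fintype.card A : ℂ) - 1) * τ := by
  classical
  have hh := finrank_eig ρ f hf 1
  have hh' : eig ρ f ((1 : AddChar A ℂ) : A → ℂ) = eig ρ f 1 := rfl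
  rw [hh'] at hh
  rw [hh]
  have h0 : f 0 = 1 := by
    have := hf 0 0
    rw [add_zero] at this
    exact left_eq_mul.1 this
  have h1 : ∀ x, (1 : AddChar A ℂ) (-x) * ρ.character (f x) = τ + if x = 0 then ((finrank ℂ V : ℂ) - τ) else 0 := by
    intro x
    by_cases hx : x = 0
    · subst hx
      rw [if_pos rfl, h0, Representation.char_one, neg_zero, AddChar.map_zero_eq_one]
      ring
    · rw [if_neg hx, hτ x hx, add_zero, AddChar.one_apply, one_mul]
  rw [Finset.sum_congr rfl (fun x _ => h1 x), Finset.sum_add_distrib, Finset.sum_ite_eq', Finset.sum_const,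
    Finset.card_univ]
  simp
  ring

end Cfsg.Agent.H118.Eig
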