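import Cfsg.Agent.H378.RegE7
import Cfsg.Agent.H972.NSm
import Cfsg.Agent.H662.ChermakDelgado
import Cfsg.Agent.S1054
import Cfsg.Agent.S1062
import Cfsg.Agent.S1063
import Cfsg.Agent.S1064
import Cfsg.Agent.S1065
import Cfsg.Agent.S1066
import Cfsg.Agent.S1070
import Cfsg.Agent.H898.NotIn

/-!
# Nilpotent subgroups of order prime to the characteristic in the exceptional groups (helper118, for S2242)

`off_of_ab` : if the elements of prime order `r ∣ K` have abelian centralizers and `|G| = p ^ a * (M * K)`,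
`M ^ 2 < |G|`, then every nilpotent subgroup of order prime to `p` has order `< √|G|`.
-/

set_option autoImplicit false

namespace Cfsg.Agent.H118.NilpOff

open Cfsg Cfsg.Lie Cfsg.Agent.H972 Cfsg.Agent.H972.NSm Cfsg.Agent.H378.ExcAdj

universe u

section Gen

variable {G : Type u} [Group G] [Finite G] [IsSimpleGroup G]

/-- Chermak-Delgado: abelian subgroups of a nonabelian simple group -/
theorem card_sq_le (hG : ¬ IsMulCommutative G) (A : Subgroup G) (hA : ∀ a ∈ A, ∀ b ∈ A, a * b = b * a) :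
    Nat.card ↥A ^ 2 ≤ Nat.card G := by
  obtain ⟨L, hL, hLab, hLi⟩ := H662.ChermakDelgado.exists_characteristic A hA
  have hLn : L.Normal := inferInstance
  rcases hLn.eq_bot_or_eq_top with h | h
  · rw [h, Subgroup.index_bot] at hLi
    have h1 := A.card_mul_index
    have h2 : Nat.card ↥A ^ 2 * Nat.card G ≤ Nat.card G * Nat.card G := by
      calc Nat.card ↥A ^ 2 * Nat.card G ≤ Nat.card ↥A ^ 2 * A.index ^ 2 := Nat.mul_le_mul_left _ hLi
        _ = Nat.card G * Nat.card G := by rw [← h1]; ring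
    exact Nat.le_of_mul_le_mul_right h2 Nat.card_pos
  · exact absurd ⟨⟨fun a b => hLab a (by rw [h]; trivial) b (by rw [h]; trivial)⟩⟩ hG

/-- **The criterion with abelian centralizers.** -/
theorem off_of_ab (hG : ¬ IsMulCommutative G) {p : ℕ} (hp : p.Prime) (hpG : p ∣ Nat.card G) (a M K : ℕ)
    (hn : Nat.card G = p ^ a * (M * K)) (hM : M ^ 2 < Nat.card G)
    (hK : ∀ r, r.Prime → r ∣ K → ∀ x : G, orderOf x = r → ∀ a b : G, Commute a x → Commute b x → Commute a b) :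
    SmallOff p G := by
  intro N hN hpN
  by_cases h : ∃ r, r.Prime ∧ r ∣ K ∧ r ∣ Nat.card ↥N
  · obtain ⟨r, hr, hrK, hrN⟩ := h
    obtain ⟨x, hx, -, hle⟩ := exists_le_centralizer hN hr hrN
    have hab : ∀ a ∈ N, ∀ b ∈ N, a * b = b * a := fun a ha b hb =>
      hK r hr hrK x hx a b (Subgroup.mem_centralizer_singleton_iff.1 (hle ha))
        (Subgroup.mem_centralizer_singleton_iff.1 (hle hb))
    refine lt_of_le_of_ne (card_sq_le hG N hab) fun h => hpN ?_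
    rw [← h] at hpG
    exact hp.dvd_of_dvd_pow hpG
  · push Not at h
    have h0 : Nat.card ↥N ∣ p ^ a * (M * K) := by rw [← hn]; exact Subgroup.card_subgroup_dvd_card N
    have hcp : (Nat.card ↥N).Coprime (p ^ a) := ((Nat.Prime.coprime_iff_not_dvd hp).2 hpN).symm.pow_right a
    have h1 : Nat.card ↥N ∣ M * K := hcp.dvd_of_dvd_mul_left h0
    have h2 : (Nat.card ↥N).Coprime K := by
      rw [Nat.coprime_iff_gcd_eq_one]
      by_contra h3
      obtain ⟨r, hr, hrd⟩ := Nat.exists_prime_and_dvd h3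
      exact h r hr (hrd.trans (Nat.gcd_dvd_right _ _)) (hrd.trans (Nat.gcd_dvd_left _ _))
    have h3 : Nat.card ↥N ∣ M := h2.dvd_of_dvd_mul_right h1
    have hM0 : 0 < M := by
      rcases Nat.eq_zero_or_pos M with h0 | h0
      · rw [h0, zero_mul, mul_zero] at hn
        exact absurd hn Nat.card_pos.ne'
      · exact h0
    exact (Nat.pow_le_pow_left (Nat.le_of_dvd hM0 h3) 2).trans_lt hM

end Gen

/-- arithmetic form: `d |G| = q ^ n * (R * K)` with `R * K < q ^ (n + l)`, `q ^ l ≤ K ^ 2` -/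
theorem off_of_arith {G : Type u} [Group G] [Finite G] [IsSimpleGroup G] (hG : ¬ IsMulCommutative G) {p q f : ℕ}
    (hp : p.Prime) (hf : f ≠ 0) (hq : q = p ^ f) {d n l R K : ℕ} (hn0 : n ≠ 0) (hd0 : 0 < d) (hd : d ∣ R)
    (hn : d * Nat.card G = q ^ n * (R * K)) (hRK : R * K < q ^ (n + l)) (hl : q ^ l ≤ K ^ 2)
    (hK : ∀ r, r.Prime → r ∣ K → ∀ x : G, orderOf x = r → ∀ a b : G, Commute a x → Commute b x → Commute a b) :
    SmallOff p G := by
  obtain ⟨M, rfl⟩ := hd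
  have hc : 0 < Nat.card G := Nat.card_pos
  have hcard : Nat.card G = q ^ n * (M * K) := by
    apply Nat.eq_of_mul_eq_mul_left hd0
    rw [hn]; ring
  have hq0 : 0 < q := by rw [hq]; exact pow_pos hp.pos f
  have hM0 : 0 < M := by
    rcases Nat.eq_zero_or_pos M with h | h
    · rw [h, zero_mul, mul_zero] at hcard
      omega
    · exact h
  have hK0 : 0 < K := by
    rcases Nat.eq_zero_or_pos K with h | h
    · rw [h, mul_zero, mul_zero] at hcard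
      omega
    · exact h
  refine off_of_ab hG hp ?_ (f * n) M K ?_ ?_ hK
  · rw [hcard, hq, ← pow_mul]
    exact Dvd.dvd.mul_right (dvd_pow_self p (Nat.mul_ne_zero hf hn0)) _
  · rw [hcard, hq, ← pow_mul]
  · -- `M ^ 2 < q ^ n M K`, i.e. `M < q ^ n K`
    have h1 : M * K < q ^ n * K * K := by
      calc M * K ≤ d * M * K := Nat.mul_le_mul_right _ (Nat.le_mul_of_pos_left _ hd0)
        _ < q ^ (n + l) := hRK
        _ = q ^ n * q ^ l := pow_add _ _ _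
        _ ≤ q ^ n * K ^ 2 := Nat.mul_le_mul_left _ hl
        _ = _ := by ring
    have h2 : M < q ^ n * K := Nat.lt_of_mul_lt_mul_right h1
    rw [hcard, sq]
    calc M * M < M * (q ^ n * K) := Nat.mul_lt_mul_of_pos_left h2 hM0
      _ = _ := by ring

/-! ### orders of `q` modulo the primes of the cyclotomic factors -/

theorem k24_2 : ∀ x : ZMod 2, x ^ 8 - x ^ 4 + 1 ≠ 0 := by decide

theorem k24_3 : ∀ x : ZMod 3, x ^ 8 - x ^ 4 + 1 ≠ 0 := by decide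

theorem k12_2 : ∀ x : ZMod 2, x ^ 4 - x ^ 2 + 1 ≠ 0 := by decide

theorem k12_3 : ∀ x : ZMod 3, x ^ 4 - x ^ 2 + 1 ≠ 0 := by decide

theorem k9_9 : ∀ x : ZMod 9, x ^ 6 + x ^ 3 + 1 ≠ 0 := by decide

theorem k18_9 : ∀ x : ZMod 9, x ^ 6 - x ^ 3 + 1 ≠ 0 := by decide

theorem od_24 {q r : ℕ} (hr : r.Prime) (h : r ∣ q ^ 8 - q ^ 4 + 1) : od q r = 24 := by
  have : Fact r.Prime := ⟨hr⟩
  have h0 : q ^ 4 ≤ q ^ 8 := by
    rcases Nat.eq_zero_or_pos q with rfl | h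
    · norm_num
    · exact Nat.pow_le_pow_right h (by norm_num)
  have h1 : (q : ZMod r) ^ 8 - (q : ZMod r) ^ 4 + 1 = 0 := by
    have := (ZMod.natCast_eq_zero_iff (q ^ 8 - q ^ 4 + 1) r).2 h
    rw [Nat.cast_add, Nat.cast_sub h0] at this
    push_cast at this
    exact this
  have hr2 : r ≠ 2 := by
    rintro rfl
    exact k24_2 _ h1
  have hr3 : r ≠ 3 := by
    rintro rfl
    exact k24_3 _ h1
  have h12 : (q : ZMod r) ^ 12 = -1 := by linear_combination ((q : ZMod r) ^ 4 + 1) * h1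
  refine orderOf_eq_of_pow_and_pow_div_prime (by norm_num) ?_ ?_
  · calc (q : ZMod r) ^ 24 = ((q : ZMod r) ^ 12) ^ 2 := by ring
      _ = 1 := by rw [h12]; ring
  · intro p hp hp24
    have h24 : (24 : ℕ) = 2 ^ 3 * 3 := by norm_num
    rw [h24] at hp24
    rcases (Nat.Prime.dvd_mul hp).1 hp24 with h3 | h3
    · have h4 : p = 2 := (Nat.prime_dvd_prime_iff_eq hp Nat.prime_two).1 (hp.dvd_of_dvd_pow h3)
      subst h4
      intro h5
      have h5' : (q : ZMod r) ^ 12 = 1 := h5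
      have h7 : ((2 : ℕ) : ZMod r) = 0 := by push_cast; linear_combination h12 - h5'
      rw [ZMod.natCast_eq_zero_iff] at h7
      exact hr2 ((Nat.prime_dvd_prime_iff_eq hr Nat.prime_two).1 h7)
    · have h4 : p = 3 := (Nat.prime_dvd_prime_iff_eq hp Nat.prime_three).1 h3
      subst h4
      intro h5
      have h5' : (q : ZMod r) ^ 8 = 1 := h5
      have h8 : (q : ZMod r) ^ 4 = 2 := by linear_combination h5' - h1
      have h7 : ((3 : ℕ) : ZMod r) = 0 := by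
        push_cast
        linear_combination h5' - ((q : ZMod r) ^ 4 + 2) * h8
      rw [ZMod.natCast_eq_zero_iff] at h7
      exact hr3 ((Nat.prime_dvd_prime_iff_eq hr Nat.prime_three).1 h7)

theorem od_12 {q r : ℕ} (hr : r.Prime) (h : r ∣ q ^ 4 - q ^ 2 + 1) : od q r = 12 := by
  have : Fact r.Prime := ⟨hr⟩
  have h0 : q ^ 2 ≤ q ^ 4 := by
    rcases Nat.eq_zero_or_pos q with rfl | h
    · norm_num
    · exact Nat.pow_le_pow_right h (by norm_num)
  have h1 : (q : ZMod r) ^ 4 - (q : ZMod r) ^ 2 + 1 = 0 := by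
    have := (ZMod.natCast_eq_zero_iff (q ^ 4 - q ^ 2 + 1) r).2 h
    rw [Nat.cast_add, Nat.cast_sub h0] at this
    push_cast at this
    exact this
  have hr2 : r ≠ 2 := by
    rintro rfl
    exact k12_2 _ h1
  have hr3 : r ≠ 3 := by
    rintro rfl
    exact k12_3 _ h1
  have h6 : (q : ZMod r) ^ 6 = -1 := by linear_combination ((q : ZMod r) ^ 2 + 1) * h1
  refine orderOf_eq_of_pow_and_pow_div_prime (by norm_num) ?_ ?_
  · calc (q : ZMod r) ^ 12 = ((q : ZMod r) ^ 6) ^ 2 := by ring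
      _ = 1 := by rw [h6]; ring
  · intro p hp hp12
    have h12 : (12 : ℕ) = 2 ^ 2 * 3 := by norm_num
    rw [h12] at hp12
    rcases (Nat.Prime.dvd_mul hp).1 hp12 with h3 | h3
    · have h4 : p = 2 := (Nat.prime_dvd_prime_iff_eq hp Nat.prime_two).1 (hp.dvd_of_dvd_pow h3)
      subst h4
      intro h5
      have h5' : (q : ZMod r) ^ 6 = 1 := h5
      have h7 : ((2 : ℕ) : ZMod r) = 0 := by push_cast; linear_combination h6 - h5'
      rw [ZMod.natCast_eq_zero_iff] at h7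
      exact hr2 ((Nat.prime_dvd_prime_iff_eq hr Nat.prime_two).1 h7)
    · have h4 : p = 3 := (Nat.prime_dvd_prime_iff_eq hp Nat.prime_three).1 h3
      subst h4
      intro h5
      have h5' : (q : ZMod r) ^ 4 = 1 := h5
      have h8 : (q : ZMod r) ^ 2 = 2 := by linear_combination h5' - h1
      have h7 : ((3 : ℕ) : ZMod r) = 0 := by
        push_cast
        linear_combination h5' - ((q : ZMod r) ^ 2 + 2) * h8
      rw [ZMod.natCast_eq_zero_iff] at h7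
      exact hr3 ((Nat.prime_dvd_prime_iff_eq hr Nat.prime_three).1 h7)

/-- the factor `Φ₉(q)` without its divisor 3 -/
theorem exists_nine (q : ℕ) (hq : 2 ≤ q) : ∃ e K : ℕ, q ^ 6 + q ^ 3 + 1 = e * K ∧ q ^ 7 ≤ K ^ 2 ∧
    ∀ r, r.Prime → r ∣ K → od q r = 9 := by
  obtain ⟨K, hK⟩ : Nat.gcd 3 (q ^ 6 + q ^ 3 + 1) ∣ q ^ 6 + q ^ 3 + 1 := Nat.gcd_dvd_right _ _
  have hg : Nat.gcd 3 (q ^ 6 + q ^ 3 + 1) ≤ 3 := Nat.le_of_dvd (by norm_num) (Nat.gcd_dvd_left _ _)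
  refine ⟨_, K, hK, ?_, ?_⟩
  · have h1 : q ^ 6 + q ^ 3 + 1 ≤ 3 * K := hK.le.trans (Nat.mul_le_mul_right _ hg)
    have h2 : q ^ 6 ≤ 3 * K := by omega
    have h3 : q ^ 12 ≤ 9 * K ^ 2 := by
      calc q ^ 12 = q ^ 6 * q ^ 6 := by ring
        _ ≤ 3 * K * (3 * K) := Nat.mul_le_mul h2 h2
        _ = 9 * K ^ 2 := by ring
    have h4 : 9 * q ^ 7 ≤ q ^ 12 := by
      calc 9 * q ^ 7 ≤ 2 ^ 5 * q ^ 7 := Nat.mul_le_mul_right _ (by norm_num)
        _ ≤ q ^ 5 * q ^ 7 := Nat.mul_le_mul_right _ (Nat.pow_le_pow_left hq 5)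
        _ = q ^ 12 := by ring
    omega
  · intro r hr hrK
    have : Fact r.Prime := ⟨hr⟩
    have hrP : r ∣ q ^ 6 + q ^ 3 + 1 := by rw [hK]; exact Dvd.dvd.mul_left hrK _
    have h1 : (q : ZMod r) ^ 6 + (q : ZMod r) ^ 3 + 1 = 0 := by
      have := (ZMod.natCast_eq_zero_iff (q ^ 6 + q ^ 3 + 1) r).2 hrP
      push_cast at this
      exact this
    have hr3 : r ≠ 3 := by
      rintro rfl
      have h9 : 9 ∣ q ^ 6 + q ^ 3 + 1 := by
        rw [hK]
        have : (3 : ℕ) ∣ Nat.gcd 3 (q ^ 6 + q ^ 3 + 1) := Nat.dvd_gcd dvd_rfl hrP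
        exact Nat.mul_dvd_mul this hrK
      have h2 := (ZMod.natCast_eq_zero_iff (q ^ 6 + q ^ 3 + 1) 9).2 h9
      push_cast at h2
      exact k9_9 _ h2
    refine orderOf_eq_of_pow_and_pow_div_prime (by norm_num) ?_ ?_
    · linear_combination ((q : ZMod r) ^ 3 - 1) * h1
    · intro p hp hp9
      have h9 : (9 : ℕ) = 3 ^ 2 := by norm_num
      rw [h9] at hp9
      have h4 : p = 3 := (Nat.prime_dvd_prime_iff_eq hp Nat.prime_three).1 (hp.dvd_of_dvd_pow hp9)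
      subst h4
      intro h5
      have h5' : (q : ZMod r) ^ 3 = 1 := h5
      have h7 : ((3 : ℕ) : ZMod r) = 0 := by
        push_cast
        linear_combination h1 - ((q : ZMod r) ^ 3 + 2) * h5'
      rw [ZMod.natCast_eq_zero_iff] at h7
      exact hr3 ((Nat.prime_dvd_prime_iff_eq hr Nat.prime_three).1 h7)

/-- the factor `Φ₁₈(q)` without its divisor 3 -/
theorem exists_eighteen (q : ℕ) (hq : 2 ≤ q) : ∃ e K : ℕ, q ^ 6 - q ^ 3 + 1 = e * K ∧ q ^ 6 ≤ K ^ 2 ∧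
    ∀ r, r.Prime → r ∣ K → od (q ^ 2) r = 9 := by
  have h0 : q ^ 3 ≤ q ^ 6 := Nat.pow_le_pow_right (by omega) (by norm_num)
  obtain ⟨K, hK⟩ : Nat.gcd 3 (q ^ 6 - q ^ 3 + 1) ∣ q ^ 6 - q ^ 3 + 1 := Nat.gcd_dvd_right _ _
  have hg : Nat.gcd 3 (q ^ 6 - q ^ 3 + 1) ≤ 3 := Nat.le_of_dvd (by norm_num) (Nat.gcd_dvd_left _ _)
  refine ⟨_, K, hK, ?_, ?_⟩
  · have h1 : q ^ 6 - q ^ 3 + 1 ≤ 3 * K := hK.le.trans (Nat.mul_le_mul_right _ hg)
    have h8 : 8 ≤ q ^ 3 := by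
      calc 8 = 2 ^ 3 := by norm_num
        _ ≤ q ^ 3 := Nat.pow_le_pow_left hq 3
    have h66 : q ^ 6 = q ^ 3 * q ^ 3 := by ring
    have h2 : 3 * q ^ 3 ≤ q ^ 6 - q ^ 3 + 1 := by
      have : 4 * q ^ 3 ≤ q ^ 6 := by
        rw [h66]
        exact Nat.mul_le_mul_right _ (by omega)
      omega
    have h3 : q ^ 3 ≤ K := by omega
    calc q ^ 6 = q ^ 3 * q ^ 3 := h66
      _ ≤ K * K := Nat.mul_le_mul h3 h3
      _ = K ^ 2 := by ring
  · intro r hr hrK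
    have : Fact r.Prime := ⟨hr⟩
    have hrP : r ∣ q ^ 6 - q ^ 3 + 1 := by rw [hK]; exact Dvd.dvd.mul_left hrK _
    have h1 : (q : ZMod r) ^ 6 - (q : ZMod r) ^ 3 + 1 = 0 := by
      have := (ZMod.natCast_eq_zero_iff (q ^ 6 - q ^ 3 + 1) r).2 hrP
      rw [Nat.cast_add, Nat.cast_sub h0] at this
      push_cast at this
      exact this
    have hr3 : r ≠ 3 := by
      rintro rfl
      have h9 : 9 ∣ q ^ 6 - q ^ 3 + 1 := by
        rw [hK]
        have : (3 : ℕ) ∣ Nat.gcd 3 (q ^ 6 - q ^ 3 + 1) := Nat.dvd_gcd dvd_rfl hrP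
        exact Nat.mul_dvd_mul this hrK
      have h2 := (ZMod.natCast_eq_zero_iff (q ^ 6 - q ^ 3 + 1) 9).2 h9
      rw [Nat.cast_add, Nat.cast_sub h0] at h2
      push_cast at h2
      exact k18_9 _ h2
    have h9' : (q : ZMod r) ^ 9 = -1 := by linear_combination ((q : ZMod r) ^ 3 + 1) * h1
    refine orderOf_eq_of_pow_and_pow_div_prime (by norm_num) ?_ ?_
    · push_cast
      calc ((q : ZMod r) ^ 2) ^ 9 = ((q : ZMod r) ^ 9) ^ 2 := by ring
        _ = 1 := by rw [h9']; ring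
    · intro p hp hp9
      have h9 : (9 : ℕ) = 3 ^ 2 := by norm_num
      rw [h9] at hp9
      have h4 : p = 3 := (Nat.prime_dvd_prime_iff_eq hp Nat.prime_three).1 (hp.dvd_of_dvd_pow hp9)
      subst h4
      intro h5
      have h5' : (q : ZMod r) ^ 6 = 1 := by
        have h6 : (((q ^ 2 : ℕ) : ZMod r)) ^ 3 = 1 := h5
        push_cast at h6
        rw [← h6]; ring
      have h8 : (q : ZMod r) ^ 3 = 2 := by linear_combination h5' - h1
      have h7 : ((3 : ℕ) : ZMod r) = 0 := by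
        push_cast
        linear_combination h5' - ((q : ZMod r) ^ 3 + 2) * h8
      rw [ZMod.natCast_eq_zero_iff] at h7
      exact hr3 ((Nat.prime_dvd_prime_iff_eq hr Nat.prime_three).1 h7)

/-! ### the rows -/

theorem sub_one_lt {q n : ℕ} (hq : 0 < q) : q ^ n - 1 < q ^ n := Nat.sub_lt (pow_pos hq n) one_pos

theorem nonab {D : ChevalleyDatum} (hD : D ∈ [chevD4, chevF4, chevE6, chevE7, chevE8]) {F : Type*} [Field F]
    {G : Type*} [Group G] (e : G ≃* ↥(D.group F)) : ¬ IsMulCommutative G := by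
  intro h
  apply (Cfsg.Agent.S1054.result (F := F) D hD).2
  refine ⟨⟨fun a b => ?_⟩⟩
  apply e.symm.injective
  rw [map_mul, map_mul]
  exact h.is_comm.comm _ _

theorem comm_of_equiv {G H : Type*} [Group G] [Group H] (e : G ≃* H) {r : ℕ}
    (h : ∀ x : H, orderOf x = r → ∀ a b : H, Commute a x → Commute b x → Commute a b) (x : G) (hx : orderOf x = r)
    (a b : G) (ha : Commute a x) (hb : Commute b x) : Commute a b := by
  have h1 := h (e x) (by rw [MulEquiv.orderOf_eq, hx]) (e a) (e b) (ha.map e) (hb.map e)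
  have h2 := h1.map e.symm
  simpa using h2

open Cfsg.Agent.BpExc.FamInst Cfsg.Agent.BpExc.RowsUntw Cfsg.Agent.Nodes.RGDChev
  Cfsg.Agent.ChevalleyStructure.CoxeterGeomTypes Cfsg.Agent.BpExc.TowChev Cfsg.Agent.BpExc.TorChev in
theorem off_F4 {G : Type u} [Group G] [Finite G] [IsSimpleGroup G] (h : Lie.IsoF4 G) :
    ∃ p, p.Prime ∧ IsLieTypeChar p G ∧ SmallOff p G := by
  obtain ⟨F, _, _, ⟨e⟩⟩ := h
  obtain ⟨p, hchar⟩ := CharP.exists F
  have hp : p.Prime := CharP.char_is_prime F p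
  obtain ⟨f, -, hq⟩ := FiniteField.card F p
  refine ⟨p, hp, by unfold IsLieTypeChar IsExceptionalChevChar; exact Or.inr (Or.inr (Or.inr (Or.inr (Or.inr (Or.inr
    (Or.inl ⟨F, inferInstance, inferInstance, hchar, Or.inr (Or.inl ⟨e⟩)⟩)))))), ?_⟩
  have hq1 : 2 ≤ Fintype.card F := Fintype.one_lt_card
  have hcard := Cfsg.Agent.S1062.result (F := F) rfl
  set q := Fintype.card F with hqd
  have hq0 : 0 < q := by omega
  have hsub : q ^ 2 ≤ q ^ 4 := Nat.pow_le_pow_right hq0 (by norm_num)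
  have h12 : q ^ 12 - 1 = (q ^ 6 - 1) * (q ^ 2 + 1) * (q ^ 4 - q ^ 2 + 1) := by
    have h6 : 1 ≤ q ^ 6 := Nat.one_le_pow _ _ hq0
    have h12 : 1 ≤ q ^ 12 := Nat.one_le_pow _ _ hq0
    zify [h6, h12, hsub]
    ring
  refine off_of_arith (nonab (by simp) e) hp f.ne_zero hq (d := 1) (n := 24) (l := 4)
    (R := (q ^ 2 - 1) * (q ^ 6 - 1) * (q ^ 8 - 1) * ((q ^ 6 - 1) * (q ^ 2 + 1))) (K := q ^ 4 - q ^ 2 + 1)
    (by norm_num) one_pos (one_dvd _) ?_ ?_ ?_ ?_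
  · rw [Nat.card_congr e.toEquiv, hcard, h12]; ring
  · have h1 := sub_one_lt (n := 2) hq0
    have h2 := sub_one_lt (n := 6) hq0
    have h3 := sub_one_lt (n := 8) hq0
    have h4 := sub_one_lt (n := 12) hq0
    calc (q ^ 2 - 1) * (q ^ 6 - 1) * (q ^ 8 - 1) * ((q ^ 6 - 1) * (q ^ 2 + 1)) * (q ^ 4 - q ^ 2 + 1)
        = (q ^ 2 - 1) * (q ^ 6 - 1) * (q ^ 8 - 1) * (q ^ 12 - 1) := by rw [h12]; ring
      _ < q ^ 2 * q ^ 6 * q ^ 8 * q ^ 12 := by gcongr
      _ = q ^ (24 + 4) := by ring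
  · have h5 : q ^ 2 ≤ q ^ 4 - q ^ 2 + 1 := by
      have : 2 * q ^ 2 ≤ q ^ 4 := by
        calc 2 * q ^ 2 ≤ q ^ 2 * q ^ 2 := Nat.mul_le_mul_right _ (by nlinarith)
          _ = q ^ 4 := by ring
      omega
    calc q ^ 4 = q ^ 2 * q ^ 2 := by ring
      _ ≤ (q ^ 4 - q ^ 2 + 1) * (q ^ 4 - q ^ 2 + 1) := Nat.mul_le_mul h5 h5
      _ = _ := by ring
  · intro r hr hrK
    refine comm_of_equiv e fun x hx => ?_
    have ho := od_12 hr hrK
    rw [hqd, ← Nat.card_eq_fintype_card] at ho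
    exact (H378.RegFin.cent_od f4T inv_F4 one_ne_zero hr hx ho (by decide) (by norm_num)).1

open Cfsg.Agent.BpExc.FamInst Cfsg.Agent.BpExc.RowsUntw Cfsg.Agent.Nodes.RGDChev
  Cfsg.Agent.ChevalleyStructure.CoxeterGeomTypes Cfsg.Agent.BpExc.TowChev Cfsg.Agent.BpExc.TorChev in
theorem off_E8 {G : Type u} [Group G] [Finite G] [IsSimpleGroup G] (h : Lie.IsoE8 G) :
    ∃ p, p.Prime ∧ IsLieTypeChar p G ∧ SmallOff p G := by
  obtain ⟨F, _, _, ⟨e⟩⟩ := h
  obtain ⟨p, hchar⟩ := CharP.exists F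
  have hp : p.Prime := CharP.char_is_prime F p
  obtain ⟨f, -, hq⟩ := FiniteField.card F p
  refine ⟨p, hp, by unfold IsLieTypeChar IsExceptionalChevChar; exact Or.inr (Or.inr (Or.inr (Or.inr (Or.inr (Or.inr
    (Or.inl ⟨F, inferInstance, inferInstance, hchar, Or.inr (Or.inr (Or.inr (Or.inr ⟨e⟩)))⟩)))))), ?_⟩
  have hq1 : 2 ≤ Fintype.card F := Fintype.one_lt_card
  have hcard := Cfsg.Agent.S1065.result (F := F) rfl
  set q := Fintype.card F with hqd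
  have hq0 : 0 < q := by omega
  have hsub : q ^ 4 ≤ q ^ 8 := Nat.pow_le_pow_right hq0 (by norm_num)
  have h24 : q ^ 24 - 1 = (q ^ 12 - 1) * (q ^ 4 + 1) * (q ^ 8 - q ^ 4 + 1) := by
    have h6 : 1 ≤ q ^ 12 := Nat.one_le_pow _ _ hq0
    have h12 : 1 ≤ q ^ 24 := Nat.one_le_pow _ _ hq0
    zify [h6, h12, hsub]
    ring
  refine off_of_arith (nonab (by simp) e) hp f.ne_zero hq (d := 1) (n := 120) (l := 8)
    (R := (q ^ 2 - 1) * (q ^ 8 - 1) * (q ^ 12 - 1) * (q ^ 14 - 1) * (q ^ 18 - 1) * (q ^ 20 - 1) *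
      ((q ^ 12 - 1) * (q ^ 4 + 1)) * (q ^ 30 - 1)) (K := q ^ 8 - q ^ 4 + 1)
    (by norm_num) one_pos (one_dvd _) ?_ ?_ ?_ ?_
  · rw [Nat.card_congr e.toEquiv, hcard, h24]; ring
  · have h1 := sub_one_lt (n := 2) hq0
    have h2 := sub_one_lt (n := 8) hq0
    have h3 := sub_one_lt (n := 12) hq0
    have h4 := sub_one_lt (n := 14) hq0
    have h5 := sub_one_lt (n := 18) hq0
    have h6 := sub_one_lt (n := 20) hq0
    have h7 := sub_one_lt (n := 24) hq0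
    have h8 := sub_one_lt (n := 30) hq0
    calc (q ^ 2 - 1) * (q ^ 8 - 1) * (q ^ 12 - 1) * (q ^ 14 - 1) * (q ^ 18 - 1) * (q ^ 20 - 1) *
          ((q ^ 12 - 1) * (q ^ 4 + 1)) * (q ^ 30 - 1) * (q ^ 8 - q ^ 4 + 1)
        = (q ^ 2 - 1) * (q ^ 8 - 1) * (q ^ 12 - 1) * (q ^ 14 - 1) * (q ^ 18 - 1) * (q ^ 20 - 1) *
          (q ^ 24 - 1) * (q ^ 30 - 1) := by rw [h24]; ring
      _ < q ^ 2 * q ^ 8 * q ^ 12 * q ^ 14 * q ^ 18 * q ^ 20 * q ^ 24 * q ^ 30 := by gcongr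
      _ = q ^ (120 + 8) := by ring
  · have h5 : q ^ 4 ≤ q ^ 8 - q ^ 4 + 1 := by
      have : 2 * q ^ 4 ≤ q ^ 8 := by
        calc 2 * q ^ 4 ≤ q ^ 4 * q ^ 4 := Nat.mul_le_mul_right _
              (le_trans (by norm_num) (Nat.pow_le_pow_left hq1 4))
          _ = q ^ 8 := by ring
      omega
    calc q ^ 8 = q ^ 4 * q ^ 4 := by ring
      _ ≤ (q ^ 8 - q ^ 4 + 1) * (q ^ 8 - q ^ 4 + 1) := Nat.mul_le_mul h5 h5
      _ = _ := by ring
  · intro r hr hrK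
    refine comm_of_equiv e fun x hx => ?_
    have ho := od_24 hr hrK
    rw [hqd, ← Nat.card_eq_fintype_card] at ho
    exact (H378.RegFin.cent_od e8T inv_E8 one_ne_zero hr hx ho (by decide) (by norm_num)).1

open Cfsg.Agent.BpExc.FamInst Cfsg.Agent.BpExc.RowsUntw Cfsg.Agent.Nodes.RGDChev
  Cfsg.Agent.ChevalleyStructure.CoxeterGeomTypes Cfsg.Agent.BpExc.TowChev Cfsg.Agent.BpExc.TorChev in
theorem off_E6 {G : Type u} [Group G] [Finite G] [IsSimpleGroup G] (h : Lie.IsoChevE6 G) :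
    ∃ p, p.Prime ∧ IsLieTypeChar p G ∧ SmallOff p G := by
  obtain ⟨F, _, _, ⟨e⟩⟩ := h
  obtain ⟨p, hchar⟩ := CharP.exists F
  have hp : p.Prime := CharP.char_is_prime F p
  obtain ⟨f, -, hq⟩ := FiniteField.card F p
  refine ⟨p, hp, by unfold IsLieTypeChar IsExceptionalChevChar; exact Or.inr (Or.inr (Or.inr (Or.inr (Or.inr (Or.inr
    (Or.inl ⟨F, inferInstance, inferInstance, hchar, Or.inr (Or.inr (Or.inl ⟨e⟩))⟩)))))), ?_⟩
  have hq1 : 2 ≤ Fintype.card F := Fintype.one_lt_card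
  have hcard := Cfsg.Agent.S1063.result (F := F) rfl
  set q := Fintype.card F with hqd
  have hq0 : 0 < q := by omega
  obtain ⟨c, K, hcK, hKq, hKr⟩ := exists_nine q hq1
  have h9 : q ^ 9 - 1 = (q ^ 3 - 1) * c * K := by
    rw [mul_assoc, ← hcK]
    have h6 : 1 ≤ q ^ 3 := Nat.one_le_pow _ _ hq0
    have h12 : 1 ≤ q ^ 9 := Nat.one_le_pow _ _ hq0
    zify [h6, h12]
    ring
  have hd : Nat.gcd 3 (q - 1) ∣ q ^ 2 - 1 := by
    refine (Nat.gcd_dvd_right _ _).trans ?_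
    simpa using Nat.sub_dvd_pow_sub_pow q 1 2
  refine off_of_arith (nonab (by simp) e) hp f.ne_zero hq (d := Nat.gcd 3 (q - 1)) (n := 36) (l := 6)
    (R := (q ^ 2 - 1) * (q ^ 5 - 1) * (q ^ 6 - 1) * (q ^ 8 - 1) * ((q ^ 3 - 1) * c) * (q ^ 12 - 1)) (K := K)
    (by norm_num) (Nat.gcd_pos_of_pos_left _ (by norm_num)) ?_ ?_ ?_ ?_ ?_
  · exact Dvd.dvd.mul_right (Dvd.dvd.mul_right (Dvd.dvd.mul_right (Dvd.dvd.mul_right (Dvd.dvd.mul_right hd _) _) _) _) _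
  · rw [Nat.card_congr e.toEquiv, hcard, h9]; ring
  · have h1 := sub_one_lt (n := 2) hq0
    have h2 := sub_one_lt (n := 5) hq0
    have h3 := sub_one_lt (n := 6) hq0
    have h4 := sub_one_lt (n := 8) hq0
    have h5 := sub_one_lt (n := 9) hq0
    have h6 := sub_one_lt (n := 12) hq0
    calc (q ^ 2 - 1) * (q ^ 5 - 1) * (q ^ 6 - 1) * (q ^ 8 - 1) * ((q ^ 3 - 1) * c) * (q ^ 12 - 1) * K
        = (q ^ 2 - 1) * (q ^ 5 - 1) * (q ^ 6 - 1) * (q ^ 8 - 1) * (q ^ 9 - 1) * (q ^ 12 - 1) := by rw [h9]; ring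
      _ < q ^ 2 * q ^ 5 * q ^ 6 * q ^ 8 * q ^ 9 * q ^ 12 := by gcongr
      _ = q ^ (36 + 6) := by ring
  · exact (Nat.pow_le_pow_right hq0 (by norm_num)).trans hKq
  · intro r hr hrK
    refine comm_of_equiv e fun x hx => ?_
    have ho := hKr r hr hrK
    rw [hqd, ← Nat.card_eq_fintype_card] at ho
    exact (H378.RegFin.cent_od e6T inv_E6 three_ne_zero hr hx ho (by decide) (by norm_num)).1

open Cfsg.Agent.BpExc.FamInst Cfsg.Agent.BpExc.RowsUntw Cfsg.Agent.Nodes.RGDChev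
  Cfsg.Agent.ChevalleyStructure.CoxeterGeomTypes Cfsg.Agent.BpExc.TowChev Cfsg.Agent.BpExc.TorChev in
theorem off_E7 {G : Type u} [Group G] [Finite G] [IsSimpleGroup G] (h : Lie.IsoE7 G) :
    ∃ p, p.Prime ∧ IsLieTypeChar p G ∧ SmallOff p G := by
  obtain ⟨F, _, _, ⟨e⟩⟩ := h
  obtain ⟨p, hchar⟩ := CharP.exists F
  have hp : p.Prime := CharP.char_is_prime F p
  obtain ⟨f, -, hq⟩ := FiniteField.card F p
  refine ⟨p, hp, by unfold IsLieTypeChar IsExceptionalChevChar; exact Or.inr (Or.inr (Or.inr (Or.inr (Or.inr (Or.inr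
    (Or.inl ⟨F, inferInstance, inferInstance, hchar, Or.inr (Or.inr (Or.inr (Or.inl ⟨e⟩)))⟩)))))), ?_⟩
  have hq1 : 2 ≤ Fintype.card F := Fintype.one_lt_card
  have hcard := Cfsg.Agent.S1064.result (F := F) rfl
  set q := Fintype.card F with hqd
  have hq0 : 0 < q := by omega
  obtain ⟨c, K, hcK, hKq, hKr⟩ := exists_nine q hq1
  have h18 : q ^ 18 - 1 = (q ^ 9 + 1) * (q ^ 3 - 1) * c * K := by
    rw [mul_assoc, ← hcK]
    have h6 : 1 ≤ q ^ 3 := Nat.one_le_pow _ _ hq0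
    have h12 : 1 ≤ q ^ 18 := Nat.one_le_pow _ _ hq0
    zify [h6, h12]
    ring
  have hd : Nat.gcd 2 (q - 1) ∣ q ^ 2 - 1 := by
    refine (Nat.gcd_dvd_right _ _).trans ?_
    simpa using Nat.sub_dvd_pow_sub_pow q 1 2
  refine off_of_arith (nonab (by simp) e) hp f.ne_zero hq (d := Nat.gcd 2 (q - 1)) (n := 63) (l := 7)
    (R := (q ^ 2 - 1) * (q ^ 6 - 1) * (q ^ 8 - 1) * (q ^ 10 - 1) * (q ^ 12 - 1) * (q ^ 14 - 1) *
      ((q ^ 9 + 1) * (q ^ 3 - 1) * c)) (K := K)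
    (by norm_num) (Nat.gcd_pos_of_pos_left _ (by norm_num)) ?_ ?_ ?_ ?_ ?_
  · exact Dvd.dvd.mul_right (Dvd.dvd.mul_right (Dvd.dvd.mul_right (Dvd.dvd.mul_right (Dvd.dvd.mul_right
      (Dvd.dvd.mul_right hd _) _) _) _) _) _
  · rw [Nat.card_congr e.toEquiv, hcard, h18]; ring
  · have h1 := sub_one_lt (n := 2) hq0
    have h2 := sub_one_lt (n := 6) hq0
    have h3 := sub_one_lt (n := 8) hq0
    have h4 := sub_one_lt (n := 10) hq0
    have h5 := sub_one_lt (n := 12) hq0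
    have h6 := sub_one_lt (n := 14) hq0
    have h7 := sub_one_lt (n := 18) hq0
    calc (q ^ 2 - 1) * (q ^ 6 - 1) * (q ^ 8 - 1) * (q ^ 10 - 1) * (q ^ 12 - 1) * (q ^ 14 - 1) *
          ((q ^ 9 + 1) * (q ^ 3 - 1) * c) * K
        = (q ^ 2 - 1) * (q ^ 6 - 1) * (q ^ 8 - 1) * (q ^ 10 - 1) * (q ^ 12 - 1) * (q ^ 14 - 1) * (q ^ 18 - 1) := by
          rw [h18]; ring
      _ < q ^ 2 * q ^ 6 * q ^ 8 * q ^ 10 * q ^ 12 * q ^ 14 * q ^ 18 := by gcongr
      _ = q ^ (63 + 7) := by ring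
  · exact hKq
  · intro r hr hrK
    refine comm_of_equiv e fun x hx => ?_
    have ho := hKr r hr hrK
    rw [hqd, ← Nat.card_eq_fintype_card] at ho
    let cs : CoxeterSystem CoxeterMatrix.E₇ CoxeterMatrix.E₇.Group := CoxeterMatrix.E₇.toCoxeterSystem
    have := finite_W e7T cs
    obtain ⟨w, -, φ, hφ⟩ := H378.RegE7.cent_E7 hr hx ho (by norm_num) cs
    exact H378.RegFin.comm_of_hom hφ

open Cfsg.Agent.BpExc.FamInst Cfsg.Agent.BpExc.RowsUntw Cfsg.Agent.Nodes.RGDChev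
  Cfsg.Agent.ChevalleyStructure.CoxeterGeomTypes Cfsg.Agent.BpExc.TowChev Cfsg.Agent.BpExc.TorChev in
theorem off_2E6 {G : Type u} [Group G] [Finite G] [IsSimpleGroup G] (h : Lie.Iso2E6 G) :
    ∃ p, p.Prime ∧ IsLieTypeChar p G ∧ SmallOff p G := by
  obtain ⟨F, _, _, q, hqp, hqF, ⟨e⟩⟩ := h
  obtain ⟨p, hchar⟩ := CharP.exists F
  have hp : p.Prime := CharP.char_is_prime F p
  obtain ⟨f, -, hq⟩ := FiniteField.card F p
  refine ⟨p, hp, by unfold IsLieTypeChar IsTwistedE6D4Char; exact Or.inr (Or.inr (Or.inr (Or.inr (Or.inr (Or.inr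
    (Or.inr (Or.inl ⟨F, inferInstance, inferInstance, hchar, q, hqp, Or.inl ⟨hqF, ⟨e⟩⟩⟩))))))), ?_⟩
  have hq1 : 2 ≤ q := hqp.two_le
  have hq0 : 0 < q := by omega
  have hcard := Cfsg.Agent.S1066.result hqp hqF
  -- `q` is a power of `p`
  obtain ⟨p', f', hp', hf', hqe⟩ := id hqp
  have hpp : p' = p := by
    have h1 : p' ∣ p ^ (f : ℕ) := by
      rw [← hq, hqF, ← hqe]
      exact dvd_pow (dvd_pow_self p' hf'.ne') (by norm_num)
    exact (Nat.prime_dvd_prime_iff_eq hp'.nat_prime hp).1 (hp'.nat_prime.dvd_of_dvd_pow h1)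
  subst hpp
  obtain ⟨c, K, hcK, hKq, hKr⟩ := exists_eighteen q hq1
  have hsub : q ^ 3 ≤ q ^ 6 := Nat.pow_le_pow_right hq0 (by norm_num)
  have h9 : q ^ 9 + 1 = (q ^ 3 + 1) * c * K := by
    rw [mul_assoc, ← hcK]
    zify [hsub]
    ring
  have hd : Nat.gcd 3 (q + 1) ∣ q ^ 2 - 1 := by
    refine (Nat.gcd_dvd_right _ _).trans ?_
    have : q ^ 2 - 1 = (q + 1) * (q - 1) := by
      have h1 : 1 ≤ q ^ 2 := Nat.one_le_pow _ _ hq0
      zify [h1, hq0]
      ring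
    rw [this]
    exact Dvd.intro _ rfl
  have hnab : ¬ IsMulCommutative G := by
    intro h
    apply (Cfsg.Agent.S1070.result hqp hqF).2
    refine ⟨⟨fun a b => ?_⟩⟩
    apply e.symm.injective
    rw [map_mul, map_mul]
    exact h.is_comm.comm _ _
  refine off_of_arith hnab hp hf'.ne' hqe.symm (d := Nat.gcd 3 (q + 1)) (n := 36) (l := 6)
    (R := (q ^ 2 - 1) * (q ^ 5 + 1) * (q ^ 6 - 1) * (q ^ 8 - 1) * ((q ^ 3 + 1) * c) * (q ^ 12 - 1)) (K := K)
    (by norm_num) (Nat.gcd_pos_of_pos_left _ (by norm_num)) ?_ ?_ ?_ ?_ ?_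
  · exact Dvd.dvd.mul_right (Dvd.dvd.mul_right (Dvd.dvd.mul_right (Dvd.dvd.mul_right (Dvd.dvd.mul_right hd _) _) _) _) _
  · rw [Nat.card_congr e.toEquiv, hcard, h9]; ring
  · have h1 : (q ^ 2 - 1) * (q ^ 5 + 1) < q ^ 7 := by
      have h1 : 1 ≤ q ^ 2 := Nat.one_le_pow _ _ hq0
      have h2 : q ^ 2 ≤ q ^ 5 := Nat.pow_le_pow_right hq0 (by norm_num)
      zify [h1] at h2 ⊢
      nlinarith
    have h2 : (q ^ 8 - 1) * (q ^ 9 + 1) < q ^ 17 := by
      have h1 : 1 ≤ q ^ 8 := Nat.one_le_pow _ _ hq0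
      have h2 : q ^ 8 ≤ q ^ 9 := Nat.pow_le_pow_right hq0 (by norm_num)
      zify [h1] at h2 ⊢
      nlinarith
    have h3 := sub_one_lt (n := 6) hq0
    have h4 := sub_one_lt (n := 12) hq0
    calc (q ^ 2 - 1) * (q ^ 5 + 1) * (q ^ 6 - 1) * (q ^ 8 - 1) * ((q ^ 3 + 1) * c) * (q ^ 12 - 1) * K
        = ((q ^ 2 - 1) * (q ^ 5 + 1)) * (q ^ 6 - 1) * ((q ^ 8 - 1) * (q ^ 9 + 1)) * (q ^ 12 - 1) := by rw [h9]; ring
      _ < q ^ 7 * q ^ 6 * q ^ 17 * q ^ 12 := by gcongr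
      _ = q ^ (36 + 6) := by ring
  · exact hKq
  · intro r hr hrK
    refine comm_of_equiv e fun x hx a b ha hb => ?_
    have ho := hKr r hr hrK
    rw [← hqF, ← Nat.card_eq_fintype_card] at ho
    have hle := H898.NotIn.twisted_le_group (K := F) q
    let ι := Subgroup.inclusion hle
    have hι : Function.Injective ι := Subgroup.inclusion_injective hle
    have h1 := (H378.RegFin.cent_od e6T inv_E6 three_ne_zero hr (x := ι x) (by rw [orderOf_injective ι hι, hx]) ho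
      (by decide) (by norm_num)).1 (ι a) (ι b) (ha.map ι) (hb.map ι)
    have h2 : ι (a * b) = ι (b * a) := by rw [map_mul, map_mul]; exact h1
    exact hι h2

end Cfsg.Agent.H118.NilpOff
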