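import Cfsg.Agent.H118.SLTrans
import Cfsg.Agent.Characters.CentralCharacter

/-!
# Integrality of the central character at the class of transvections (helper118)

`HasB ρ b`: the character of `ρ` takes the value `dim V - q^(n-1) b` at the non-trivial transvections.
`dvd_of_hasB`: the degree divides `T (d - q^(n-1) b)`, where `T (q - 1) = (q^n - 1) (q^(n-1) - 1)`.
-/

set_option autoImplicit false
set_option linter.unusedSectionVars false

namespace Cfsg.Agent.H118.SLInt

open Matrix Module Cfsg.Agent.H118.SLTrans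

variable {ι F : Type*} [Field F] [Fintype F] [DecidableEq ι] [Fintype ι]

/-- The number of forms vanishing at a non-zero vector. -/
theorem card_forms {u : ι → F} (hu : u ≠ 0) :
    Nat.card {φ : ι → F // φ ⬝ᵥ u = 0} * Fintype.card F = Fintype.card F ^ Fintype.card ι := by
  classical
  let f : (ι → F) →ₗ[F] F :=
    { toFun := fun ψ => ψ ⬝ᵥ u
      map_add' := fun x y => add_dotProduct x y u
      map_smul' := fun s x => smul_dotProduct s x u }
  have hs : Function.Surjective f := by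
    obtain ⟨i, hi⟩ := Function.ne_iff.1 hu
    have hi : u i ≠ 0 := hi
    intro s
    refine ⟨Pi.single i (s / u i), ?_⟩
    change (Pi.single i (s / u i)) ⬝ᵥ u = s
    rw [single_dotProduct]
    field_simp
  have h1 : Nat.card {φ : ι → F // φ ⬝ᵥ u = 0} = Nat.card (LinearMap.ker f) := rfl
  have h2 := Submodule.card_eq_card_quotient_mul_card (LinearMap.ker f)
  have h3 : Nat.card ((ι → F) ⧸ LinearMap.ker f) = Nat.card F :=
    Nat.card_congr (LinearMap.quotKerEquivOfSurjective f hs).toEquiv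
  rw [h3] at h2
  rw [h1]
  have h4 : Nat.card (ι → F) = Fintype.card F ^ Fintype.card ι := by
    rw [Nat.card_eq_fintype_card, Fintype.card_fun]
  rw [← h4, h2, Nat.card_eq_fintype_card (α := F), mul_comm]

/-- The set of non-trivial transvections. -/
def IsTr (g : SpecialLinearGroup ι F) : Prop := ∃ u φ : ι → F, φ ⬝ᵥ u = 0 ∧ u ≠ 0 ∧ φ ≠ 0 ∧ g = Tr u φ

theorem isTr_conj (g h : SpecialLinearGroup ι F) : IsTr (h * g * h⁻¹) ↔ IsTr g := by
  have key : ∀ g h : SpecialLinearGroup ι F, IsTr g → IsTr (h * g * h⁻¹) := by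
    rintro g h ⟨u, φ, h0, hu, hφ, rfl⟩
    refine ⟨h.1 *ᵥ u, φ ᵥ* (h⁻¹).1, by rw [inv_dot, h0], ?_, ?_, conj_Tr h h0⟩
    · intro h1
      apply hu
      have := congrArg (fun x => (h⁻¹).1 *ᵥ x) h1
      simpa only [mulVec_mulVec, coe_inv_mul, one_mulVec, mulVec_zero] using this
    · intro h1
      apply hφ
      have := congrArg (fun x => x ᵥ* h.1) h1
      simpa only [vecMul_vecMul, coe_inv_mul, vecMul_one, zero_vecMul] using this
  refine ⟨fun h1 => ?_, key g h⟩
  have := key _ h⁻¹ h1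
  have h2 : h⁻¹ * (h * g * h⁻¹) * h⁻¹⁻¹ = g := by group
  rwa [h2] at this

/-- The pairs. -/
abbrev Pairs (ι F : Type*) [Field F] [Fintype ι] : Type _ :=
  {x : (ι → F) × (ι → F) // x.2 ⬝ᵥ x.1 = 0 ∧ x.1 ≠ 0 ∧ x.2 ≠ 0}

theorem card_pairs :
    Nat.card (Pairs ι F) = (Fintype.card F ^ Fintype.card ι - 1) * (Fintype.card F ^ (Fintype.card ι - 1) - 1) := by
  classical
  have e : Pairs ι F ≃ Σ u : {u : ι → F // u ≠ 0}, {φ : {φ : ι → F // φ ⬝ᵥ (u : ι → F) = 0} // φ ≠ ⟨0, by simp⟩} :=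
    { toFun := fun x => ⟨⟨x.1.1, x.2.2.1⟩, ⟨⟨x.1.2, x.2.1⟩, fun h => x.2.2.2 (congrArg Subtype.val h)⟩⟩
      invFun := fun x => ⟨(x.1.1, x.2.1.1), x.2.1.2, x.1.2, fun h => x.2.2 (Subtype.ext h)⟩
      left_inv := fun x => rfl
      right_inv := fun x => rfl }
  rw [Nat.card_congr e, Nat.card_sigma]
  have h1 : ∀ u : {u : ι → F // u ≠ 0}, Nat.card {φ : {φ : ι → F // φ ⬝ᵥ (u : ι → F) = 0} // φ ≠ ⟨0, by simp⟩} =
      Fintype.card F ^ (Fintype.card ι - 1) - 1 := by
    intro u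
    have h2 := card_forms u.2
    have hq : 0 < Fintype.card F := Fintype.card_pos
    have hn : 0 < Fintype.card ι := by
      obtain ⟨i, _⟩ := Function.ne_iff.1 u.2
      exact Fintype.card_pos_iff.2 ⟨i⟩
    have h3 : Nat.card {φ : ι → F // φ ⬝ᵥ (u : ι → F) = 0} = Fintype.card F ^ (Fintype.card ι - 1) := by
      have h4 : Fintype.card F ^ Fintype.card ι = Fintype.card F ^ (Fintype.card ι - 1) * Fintype.card F := by
        rw [← pow_succ]
        congr 1
        omega
      rw [h4] at h2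
      exact Nat.eq_of_mul_eq_mul_right hq h2
    rw [Nat.card_eq_fintype_card, Fintype.card_subtype_compl, Fintype.card_subtype_eq, ← Nat.card_eq_fintype_card, h3]
  rw [Finset.sum_congr rfl (fun u _ => h1 u), Finset.sum_const, Finset.card_univ, smul_eq_mul]
  congr 1
  rw [Fintype.card_subtype_compl, Fintype.card_subtype_eq, Fintype.card_fun]

/-- The number of non-trivial transvections. -/
theorem card_isTr : Nat.card {g : SpecialLinearGroup ι F // IsTr g} * (Fintype.card F - 1) =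
    (Fintype.card F ^ Fintype.card ι - 1) * (Fintype.card F ^ (Fintype.card ι - 1) - 1) := by
  classical
  rw [← card_pairs (ι := ι) (F := F)]
  have hu : Nat.card Fˣ = Fintype.card F - 1 := by
    rw [Nat.card_units, Nat.card_eq_fintype_card]
  rw [← hu, ← Nat.card_prod]
  let f : {g : SpecialLinearGroup ι F // IsTr g} × Fˣ → Pairs ι F := fun x =>
    ⟨((x.2 : F) • x.1.2.choose, ((x.2⁻¹ : Fˣ) : F) • x.1.2.choose_spec.choose), by
      have h := x.1.2.choose_spec.choose_spec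
      refine ⟨?_, ?_, ?_⟩
      · rw [smul_dotProduct, dotProduct_smul, h.1, smul_zero, smul_zero]
      · intro h0
        rcases smul_eq_zero.1 h0 with h1 | h1
        · exact x.2.ne_zero h1
        · exact h.2.1 h1
      · intro h0
        rcases smul_eq_zero.1 h0 with h1 | h1
        · exact (x.2⁻¹).ne_zero h1
        · exact h.2.2.1 h1⟩
  refine Nat.card_eq_of_bijective f ⟨?_, ?_⟩
  · rintro ⟨g, s⟩ ⟨g', s'⟩ he
    have h1 : (s : F) • g.2.choose = (s' : F) • g'.2.choose := congrArg (fun z : Pairs ι F => z.1.1) he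
    have h2 : ((s⁻¹ : Fˣ) : F) • g.2.choose_spec.choose = ((s'⁻¹ : Fˣ) : F) • g'.2.choose_spec.choose :=
      congrArg (fun z : Pairs ι F => z.1.2) he
    have hg := g.2.choose_spec.choose_spec
    have hg' := g'.2.choose_spec.choose_spec
    have hT : ∀ (u φ : ι → F) (s : Fˣ), Tr ((s : F) • u) (((s⁻¹ : Fˣ) : F) • φ) = Tr u φ := by
      intro u φ s
      rw [Tr_smul, smul_smul]
      simp
    have h3 : g = g' := by
      apply Subtype.ext
      rw [hg.2.2.2, hg'.2.2.2, ← hT _ _ s, h1, h2, hT]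
    subst h3
    have h4 : (s : F) = s' := by
      obtain ⟨i, hi⟩ := Function.ne_iff.1 hg.2.1
      have := congrFun h1 i
      rw [Pi.smul_apply, Pi.smul_apply, smul_eq_mul, smul_eq_mul] at this
      exact mul_right_cancel₀ hi this
    rw [Units.ext h4]
  · rintro ⟨⟨u, φ⟩, h0, hu0, hφ0⟩
    have hg : IsTr (Tr u φ) := ⟨u, φ, h0, hu0, hφ0, rfl⟩
    have h := hg.choose_spec.choose_spec
    obtain ⟨s, hs1, hs2⟩ := (Tr_eq_iff h.1 h.2.1 h.2.2.1 h0).1 h.2.2.2.symm
    refine ⟨⟨⟨Tr u φ, hg⟩, s⟩, ?_⟩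
    apply Subtype.ext
    exact Prod.ext hs1.symm hs2.symm

/-- The character takes the value `dim V - q^(n-1) b` at the non-trivial transvections. -/
def HasB {V : Type*} [AddCommGroup V] [Module ℂ V] (ρ : Representation ℂ (SpecialLinearGroup ι F) V) (b : ℕ) : Prop :=
  ∀ u φ : ι → F, φ ⬝ᵥ u = 0 → u ≠ 0 → φ ≠ 0 →
    ρ.character (Tr u φ) = (finrank ℂ V : ℂ) - (Fintype.card F : ℂ) ^ (Fintype.card ι - 1) * b

theorem dvd_of_hasB {V : Type*} [AddCommGroup V] [Module ℂ V] [FiniteDimensional ℂ V]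
    (ρ : Representation ℂ (SpecialLinearGroup ι F) V) [ρ.IsIrreducible] {b : ℕ} (hb : HasB ρ b) :
    ∃ T : ℕ, T * (Fintype.card F - 1) =
        (Fintype.card F ^ Fintype.card ι - 1) * (Fintype.card F ^ (Fintype.card ι - 1) - 1) ∧
      (finrank ℂ V : ℤ) ∣ (T : ℤ) * (Fintype.card F ^ (Fintype.card ι - 1) * b : ℕ) := by
  classical
  have : Fintype (SpecialLinearGroup ι F) := Fintype.ofFinite _
  refine ⟨Nat.card {g : SpecialLinearGroup ι F // IsTr g}, card_isTr, ?_⟩
  set T := Nat.card {g : SpecialLinearGroup ι F // IsTr g} with hT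
  have h1 := Cfsg.Agent.Characters.CentralCharacter.isIntegral_sum_int ρ
    (fun g => if IsTr g then (1 : ℤ) else 0) (fun x g => by simp only [isTr_conj])
  have h2 : (∑ x, (((if IsTr x then (1 : ℤ) else 0 : ℤ)) : ℂ) * ρ.character x) =
      (T : ℂ) * ((finrank ℂ V : ℂ) - (Fintype.card F : ℂ) ^ (Fintype.card ι - 1) * b) := by
    have h3 : ∀ x : SpecialLinearGroup ι F, (((if IsTr x then (1 : ℤ) else 0 : ℤ)) : ℂ) * ρ.character x =
        if IsTr x then ((finrank ℂ V : ℂ) - (Fintype.card F : ℂ) ^ (Fintype.card ι - 1) * b) else 0 := by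
      intro x
      by_cases hx : IsTr x
      · rw [if_pos hx, if_pos hx]
        obtain ⟨u, φ, h0, hu, hφ, rfl⟩ := hx
        rw [hb u φ h0 hu hφ]
        simp
      · rw [if_neg hx, if_neg hx]
        simp
    rw [Finset.sum_congr rfl (fun x _ => h3 x), ← Finset.sum_filter, Finset.sum_const, nsmul_eq_mul]
    congr 2
    rw [hT, Nat.card_eq_fintype_card, Fintype.card_subtype]
  rw [h2] at h1
  have hd : 0 < finrank ℂ V := Cfsg.Agent.Characters.CentralCharacter.finrank_pos_of_irreducible ρ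
  have hdC : (finrank ℂ V : ℂ) ≠ 0 := by exact_mod_cast hd.ne'
  -- the quotient is rational
  set N : ℤ := (T : ℤ) * ((finrank ℂ V : ℤ) - ((Fintype.card F ^ (Fintype.card ι - 1) * b : ℕ) : ℤ)) with hN
  have h4 : (T : ℂ) * ((finrank ℂ V : ℂ) - (Fintype.card F : ℂ) ^ (Fintype.card ι - 1) * b) = (N : ℂ) := by
    rw [hN]; push_cast; ring
  rw [h4] at h1
  have h5 : ((N : ℂ) / (finrank ℂ V : ℂ)) = (((N : ℚ) / (finrank ℂ V : ℚ) : ℚ) : ℂ) := by push_cast; rfl
  rw [h5] at h1
  have h6 : IsIntegral ℤ ((N : ℚ) / (finrank ℂ V : ℚ)) := by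
    have := (isIntegral_algebraMap_iff (R := ℤ) (A := ℚ) (B := ℂ) (algebraMap ℚ ℂ).injective
      (x := (N : ℚ) / (finrank ℂ V : ℚ))).1
    exact this h1
  obtain ⟨z, hz⟩ := IsIntegrallyClosed.isIntegral_iff.1 h6
  have hz : (z : ℚ) = (N : ℚ) / (finrank ℂ V : ℚ) := by simpa using hz
  have hdQ : (finrank ℂ V : ℚ) ≠ 0 := by exact_mod_cast hd.ne'
  have h7 : (z * (finrank ℂ V : ℤ) : ℤ) = N := by
    have : (z : ℚ) * (finrank ℂ V : ℚ) = N := by rw [hz]; field_simp
    exact_mod_cast this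
  have h8 : (finrank ℂ V : ℤ) ∣ N := ⟨z, by rw [← h7]; ring⟩
  have h9 : (T : ℤ) * ((Fintype.card F ^ (Fintype.card ι - 1) * b : ℕ) : ℤ) = T * (finrank ℂ V : ℤ) - N := by
    rw [hN]; ring
  rw [h9]
  exact dvd_sub (Dvd.intro_left _ rfl) h8

end Cfsg.Agent.H118.SLInt
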