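import Cfsg.Agent.H118.SLWt
import Cfsg.Agent.LieClassical.SLGen

/-!
# Structure of representations of `SL ι F` with `b = 1` (helper118)
-/

set_option autoImplicit false
set_option linter.unusedSectionVars false

namespace Cfsg.Agent.H118.SLStruct

open Matrix Module Cfsg.Agent.H118.SLTrans Cfsg.Agent.H118.SLInt Cfsg.Agent.H118.Eig Cfsg.Agent.H118.SLWt

section General

variable {G V : Type*} [Group G] [AddCommGroup V] [Module ℂ V]

/-- Commutators of elements stabilising a line act trivially on it. -/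
theorem comm_trivial (ρ : Representation ℂ G V) (E : Submodule ℂ V) (hE : finrank ℂ E = 1) {g h : G}
    (hg : ∀ v ∈ E, ρ g v ∈ E) (hh : ∀ v ∈ E, ρ h v ∈ E) : ∀ v ∈ E, ρ (g * h * g⁻¹ * h⁻¹) v = v := by
  obtain ⟨e, he0, he⟩ := finrank_eq_one_iff'.1 hE
  have key : ∀ g : G, (∀ v ∈ E, ρ g v ∈ E) → ∃ c : ℂ, c ≠ 0 ∧ ∀ v ∈ E, ρ g v = c • v ∧ ρ g⁻¹ v = c⁻¹ • v := by
    intro g hg
    obtain ⟨c, hc⟩ := he ⟨ρ g e.1, hg _ e.2⟩
    have hc' : ρ g e.1 = c • e.1 := (congrArg Subtype.val hc).symm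
    have hc0 : c ≠ 0 := by
      rintro rfl
      rw [zero_smul] at hc'
      have := congrArg (ρ g⁻¹) hc'
      rw [Representation.inv_self_apply, map_zero] at this
      exact he0 (Subtype.ext this)
    have h1 : ∀ v ∈ E, ρ g v = c • v := by
      intro v hv
      obtain ⟨d, hd⟩ := he ⟨v, hv⟩
      have hd' : v = d • e.1 := (congrArg Subtype.val hd).symm
      rw [hd', map_smul, hc', smul_comm]
    refine ⟨c, hc0, fun v hv => ⟨h1 v hv, ?_⟩⟩
    have h2 := congrArg (ρ g⁻¹) (h1 v hv)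
    rw [Representation.inv_self_apply, map_smul] at h2
    have h3 := congrArg (fun x => c⁻¹ • x) h2
    simp only [smul_smul, inv_mul_cancel₀ hc0, one_smul] at h3
    exact h3.symm
  obtain ⟨c, hc, hc1⟩ := key g hg
  obtain ⟨d, hd, hd1⟩ := key h hh
  intro v hv
  rw [map_mul, map_mul, map_mul, Module.End.mul_apply, Module.End.mul_apply, Module.End.mul_apply,
    (hd1 v hv).2, map_smul, (hc1 v hv).2, map_smul, map_smul, map_smul, (hd1 v hv).1]
  simp only [map_smul, (hc1 v hv).1, smul_smul]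
  have : d⁻¹ * (c⁻¹ * d * c) = 1 := by field_simp
  rw [this, one_smul]

end General

variable {ι F : Type*} [Field F] [Fintype F] [DecidableEq ι] [Fintype ι]

/-! ### Elements stabilising the weight space -/

/-- `g` with `e_b g = l e_b`, `e_c g = l e_c`. -/
def Sb (b c : ι) (g : SpecialLinearGroup ι F) : Prop :=
  ∃ l : F, l ≠ 0 ∧ (Pi.single b 1 : ι → F) ᵥ* g.1 = l • Pi.single b 1 ∧
    (Pi.single c 1 : ι → F) ᵥ* g.1 = l • Pi.single c 1

theorem Sb_cf {b c : ι} (hcb : c ≠ b) {g : SpecialLinearGroup ι F} (hg : Sb b c g) (u : Off b → F) :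
    ∃ u' : Off b → F, cf b u * g = g * cf b u' ∧ u' ⟨c, hcb⟩ = u ⟨c, hcb⟩ := by
  obtain ⟨l, hl, hb, hc⟩ := hg
  -- `u' = l g⁻¹ u`
  have hb' : (Pi.single b 1 : ι → F) ᵥ* (g⁻¹).1 = l⁻¹ • Pi.single b 1 := by
    have := congrArg (fun x => l⁻¹ • (x ᵥ* (g⁻¹).1)) hb
    simp only [vecMul_vecMul, coe_mul_inv, vecMul_one, smul_vecMul, smul_smul, inv_mul_cancel₀ hl, one_smul] at this
    exact this.symm
  have hc' : (Pi.single c 1 : ι → F) ᵥ* (g⁻¹).1 = l⁻¹ • Pi.single c 1 := by
    have := congrArg (fun x => l⁻¹ • (x ᵥ* (g⁻¹).1)) hc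
    simp only [vecMul_vecMul, coe_mul_inv, vecMul_one, smul_vecMul, smul_smul, inv_mul_cancel₀ hl, one_smul] at this
    exact this.symm
  have h0 : ∀ i, ¬ i ≠ b → (l • ((g⁻¹).1 *ᵥ ex (· ≠ b) u)) i = 0 := by
    intro i hi
    have hi : i = b := not_not.1 hi
    subst hi
    rw [← single_dot (l • ((g⁻¹).1 *ᵥ ex (· ≠ i) u)) i, dotProduct_smul, dotProduct_mulVec, hb', smul_dotProduct,
      single_dot, ex_self, smul_zero, smul_zero]
  obtain ⟨u', hu'⟩ := exists_ex (· ≠ b) h0
  refine ⟨u', ?_, ?_⟩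
  · have h1 : g * cf b u' * g⁻¹ = cf b u := by
      rw [cf, conj_Tr g (cf_orth b u'), hu', mulVec_smul, mulVec_mulVec, coe_mul_inv, one_mulVec, hb',
        ← Tr_smul, smul_smul, inv_mul_cancel₀ hl, one_smul]
      rfl
    rw [← h1]
    group
  · have h2 : ex (· ≠ b) u' c = ex (· ≠ b) u c := by
      rw [hu', ← single_dot (l • ((g⁻¹).1 *ᵥ ex (· ≠ b) u)) c, dotProduct_smul, dotProduct_mulVec, hc',
        smul_dotProduct, single_dot, smul_smul, mul_inv_cancel₀ hl, one_smul]
    rw [ex_of_pos (· ≠ b) _ hcb, ex_of_pos (· ≠ b) _ hcb] at h2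
    exact h2

theorem Sb_Tr {b c : ι} {w ψ : ι → F} (h : ψ ⬝ᵥ w = 0) (hb : w b = 0) (hc : w c = 0) : Sb b c (Tr w ψ) := by
  refine ⟨1, one_ne_zero, ?_, ?_⟩
  · rw [vecMul_Tr h, single_dot, hb, zero_smul, add_zero, one_smul]
  · rw [vecMul_Tr h, single_dot, hc, zero_smul, add_zero, one_smul]

/-- A diagonal element. -/
def dg (d : ι → F) (h : ∏ i, d i = 1) : SpecialLinearGroup ι F := ⟨diagonal d, by rw [det_diagonal, h]⟩

theorem dg_ne {d : ι → F} (h : ∏ i, d i = 1) (i : ι) : d i ≠ 0 := by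
  intro h0
  have := Finset.prod_eq_zero (Finset.mem_univ i) h0
  rw [h] at this
  exact one_ne_zero this

theorem Sb_dg {b c : ι} {d : ι → F} (h : ∏ i, d i = 1) (hbc : d b = d c) : Sb b c (dg d h) := by
  have key : ∀ j, (Pi.single j 1 : ι → F) ᵥ* (dg d h).1 = d j • Pi.single j 1 := by
    intro j
    funext i
    change ((Pi.single j 1 : ι → F) ᵥ* diagonal d) i = _
    rw [vecMul_diagonal, Pi.smul_apply, smul_eq_mul]
    by_cases hij : i = j
    · subst hij; rw [Pi.single_eq_same]; ring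
    · rw [Pi.single_eq_of_ne hij]; ring
  exact ⟨d b, dg_ne h b, key b, by rw [key c, hbc]⟩

/-- The commutator of a diagonal element and a row transvection. -/
theorem dg_conj {a j : ι} (haj : a ≠ j) {d : ι → F} (h : ∏ i, d i = 1) (s : F) :
    dg d h * Tr (Pi.single a 1) (Pi.single j s) * (dg d h)⁻¹ = Tr (Pi.single a 1) (Pi.single j (d a / d j * s)) := by
  have horth : ∀ s : F, (Pi.single j s : ι → F) ⬝ᵥ (Pi.single a 1 : ι → F) = 0 := by
    intro s
    rw [dot_single, Pi.single_eq_of_ne haj]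
  rw [conj_Tr _ (horth s)]
  have h1 : (dg d h).1 *ᵥ (Pi.single a 1 : ι → F) = d a • Pi.single a 1 := by
    funext i
    change (diagonal d *ᵥ (Pi.single a 1 : ι → F)) i = _
    rw [mulVec_diagonal, Pi.smul_apply, smul_eq_mul]
    by_cases hia : i = a
    · subst hia; rfl
    · rw [Pi.single_eq_of_ne hia]; ring
  have h2 : (Pi.single j s : ι → F) ᵥ* ((dg d h)⁻¹).1 = Pi.single j ((d j)⁻¹ * s) := by
    have h3 : (Pi.single j ((d j)⁻¹ * s) : ι → F) ᵥ* (dg d h).1 = Pi.single j s := by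
      funext i
      change ((Pi.single j ((d j)⁻¹ * s) : ι → F) ᵥ* diagonal d) i = _
      rw [vecMul_diagonal]
      by_cases hij : i = j
      · subst hij
        rw [Pi.single_eq_same, Pi.single_eq_same]
        have := dg_ne h i
        field_simp
      · rw [Pi.single_eq_of_ne hij, Pi.single_eq_of_ne hij, zero_mul]
    rw [← h3, vecMul_vecMul, coe_mul_inv, vecMul_one]
  rw [h1, h2, Tr_smul]
  congr 1
  funext i
  rw [Pi.smul_apply, smul_eq_mul]
  by_cases hij : i = j
  · subst hij; rw [Pi.single_eq_same, Pi.single_eq_same]; ring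
  · rw [Pi.single_eq_of_ne hij, Pi.single_eq_of_ne hij, mul_zero]

theorem single_orth {a j : ι} (haj : a ≠ j) (s : F) : (Pi.single j s : ι → F) ⬝ᵥ (Pi.single a 1 : ι → F) = 0 := by
  rw [dot_single, Pi.single_eq_of_ne haj]

theorem dg_comm {a j : ι} (haj : a ≠ j) {d : ι → F} (h : ∏ i, d i = 1) (s : F) :
    dg d h * Tr (Pi.single a 1) (Pi.single j s) * (dg d h)⁻¹ * (Tr (Pi.single a 1) (Pi.single j s))⁻¹ =
      Tr (Pi.single a 1) (Pi.single j ((d a / d j - 1) * s)) := by
  rw [dg_conj haj, ← Tr_neg (single_orth haj s), ← Pi.single_neg, Tr_mul (single_orth haj _) (single_orth haj _),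
    ← Pi.single_add]
  congr 2
  ring

/-- The commutator formula. -/
theorem root_comm {a j k : ι} (haj : a ≠ j) (hak : a ≠ k) (hjk : j ≠ k) (s : F) :
    Tr (Pi.single k 1) (Pi.single j 1) * Tr (Pi.single a 1) (Pi.single k (-s)) *
      (Tr (Pi.single k 1) (Pi.single j 1))⁻¹ * (Tr (Pi.single a 1) (Pi.single k (-s)))⁻¹ =
      Tr (Pi.single a (1 : F)) (Pi.single j s) := by
  rw [conj_Tr_Tr (single_orth hjk.symm 1) (single_orth hak _), ← Tr_neg (single_orth hak _)]
  have h1 : (Pi.single a 1 : ι → F) + ((Pi.single j 1 : ι → F) ⬝ᵥ (Pi.single a 1 : ι → F)) • Pi.single k 1 =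
      Pi.single a 1 := by
    rw [single_orth haj, zero_smul, add_zero]
  have h2 : (Pi.single k (-s) : ι → F) - ((Pi.single k (-s) : ι → F) ⬝ᵥ (Pi.single k 1 : ι → F)) • Pi.single j 1 =
      Pi.single k (-s) + Pi.single j s := by
    rw [dot_single, Pi.single_eq_same, sub_eq_add_neg]
    congr 1
    funext i
    rw [Pi.neg_apply, Pi.smul_apply, smul_eq_mul]
    by_cases hij : i = j
    · subst hij; rw [Pi.single_eq_same, Pi.single_eq_same]; ring
    · rw [Pi.single_eq_of_ne hij, Pi.single_eq_of_ne hij]; ring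
  rw [h1, h2, Tr_mul]
  · congr 1
    funext i
    simp only [Pi.add_apply, Pi.neg_apply]
    ring
  · rw [add_dotProduct, single_orth hak, single_orth haj, add_zero]
  · rw [neg_dotProduct, single_orth hak, neg_zero]

/-! ### The line is fixed by the row groups -/

variable {V : Type*} [AddCommGroup V] [Module ℂ V] [FiniteDimensional ℂ V]
  {ρ : Representation ℂ (SpecialLinearGroup ι F) V}

/-- The weight line. -/
noncomputable def EE (ρ : Representation ℂ (SpecialLinearGroup ι F) V) {b c : ι} (hcb : c ≠ b) (t : F) :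
    Submodule ℂ V := eig ρ (cf b) (wt (⟨c, hcb⟩ : Off b) t)

theorem finrank_EE (hB : HasB ρ 1) {b c : ι} (hcb : c ≠ b) {t : F} (ht : t ≠ 0) : finrank ℂ (EE ρ hcb t) = 1 :=
  HasB.finrank_cf hB b _ (wt_ne_one _ ht)

theorem stab_EE {b c : ι} (hcb : c ≠ b) (t : F) {g : SpecialLinearGroup ι F} (hg : Sb b c g) :
    ∀ v ∈ EE ρ hcb t, ρ g v ∈ EE ρ hcb t := by
  intro v hv u
  obtain ⟨u', h1, h2⟩ := Sb_cf hcb hg u
  rw [← Module.End.mul_apply, ← map_mul, h1, map_mul, Module.End.mul_apply, hv u', map_smul, wt_apply, wt_apply, h2]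

theorem comm_EE (hB : HasB ρ 1) {b c : ι} (hcb : c ≠ b) {t : F} (ht : t ≠ 0) {g h : SpecialLinearGroup ι F}
    (hg : Sb b c g) (hh : Sb b c h) : ∀ v ∈ EE ρ hcb t, ρ (g * h * g⁻¹ * h⁻¹) v = v :=
  comm_trivial ρ _ (finrank_EE hB hcb ht) (stab_EE hcb t hg) (stab_EE hcb t hh)

/-- Root elements in the column group. -/
theorem EE_col {a b c : ι} (hcb : c ≠ b) (hab : a ≠ b) (hac : a ≠ c) (t s : F) :
    ∀ v ∈ EE ρ hcb t, ρ (Tr (Pi.single a 1) (Pi.single b s)) v = v := by
  intro v hv
  have h1 := hv (Pi.single ⟨a, hab⟩ s)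
  have h2 : cf b (Pi.single (⟨a, hab⟩ : Off b) s) = Tr (Pi.single a 1) (Pi.single b s) := by
    rw [cf, ex_single (· ≠ b) hab]
    have h3 : (Pi.single a s : ι → F) = s • Pi.single a 1 := by
      rw [← Pi.single_smul]; simp
    have h4 : (Pi.single b s : ι → F) = s • Pi.single b 1 := by
      rw [← Pi.single_smul]; simp
    rw [h3, h4, Tr_smul]
  rw [h2, wt_apply, Pi.single_eq_of_ne, mul_zero, AddChar.map_zero_eq_one, one_smul] at h1
  · exact h1
  · intro h
    exact hac (congrArg Subtype.val h).symm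

/-- If all root elements of the row group fix the line, then so does the row group. -/
theorem row_fix {E : Submodule ℂ V} {a : ι}
    (h : ∀ j, a ≠ j → ∀ s : F, ∀ v ∈ E, ρ (Tr (Pi.single a 1) (Pi.single j s)) v = v) : E ≤ eig ρ (rf a) 1 := by
  intro v hv
  let S : AddSubmonoid (Off a → F) :=
    { carrier := {φ | ρ (rf a φ) v = v}
      zero_mem' := by
        change ρ (rf a 0) v = v
        rw [rf, ex_zero, Tr_zero, map_one]
        rfl
      add_mem' := by
        intro x y hx hy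
        change ρ (rf a (x + y)) v = v
        have hx : ρ (rf a x) v = v := hx
        have hy : ρ (rf a y) v = v := hy
        rw [rf_add, map_mul, Module.End.mul_apply, hy, hx] }
  intro φ
  have h1 : φ ∈ S := by
    rw [← Finset.univ_sum_single φ]
    refine S.sum_mem fun j _ => ?_
    change ρ (rf a (Pi.single j (φ j))) v = v
    have h2 : rf a (Pi.single j (φ j)) = Tr (Pi.single a 1) (Pi.single j.1 (φ j)) := by
      rw [rf]
      have h3 : (j : Off a) = ⟨j.1, j.2⟩ := rfl
      conv_lhs => rw [h3]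
      rw [ex_single (· ≠ a) j.2]
    rw [h2]
    exact h j.1 j.2.symm _ v hv
  change ρ (rf a φ) v = (1 : ℂ) • v
  rw [one_smul]
  exact h1

/-- A commutator argument for a root `a j` with an index outside `{a, b, c, j}`. -/
theorem EE_root (hB : HasB ρ 1) {a b c j k : ι} (hcb : c ≠ b) {t : F} (ht : t ≠ 0) (hab : a ≠ b) (hac : a ≠ c)
    (haj : a ≠ j) (hka : k ≠ a) (hkb : k ≠ b) (hkc : k ≠ c) (hkj : k ≠ j) (s : F) :
    ∀ v ∈ EE ρ hcb t, ρ (Tr (Pi.single a 1) (Pi.single j s)) v = v := by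
  rw [← root_comm haj hka.symm hkj.symm s]
  apply comm_EE hB hcb ht
  · exact Sb_Tr (single_orth hkj 1) (Pi.single_eq_of_ne hkb.symm _) (Pi.single_eq_of_ne hkc.symm _)
  · exact Sb_Tr (single_orth hka.symm _) (Pi.single_eq_of_ne hab.symm _) (Pi.single_eq_of_ne hac.symm _)

/-- A torus argument. -/
theorem EE_torus (hB : HasB ρ 1) {a b c j : ι} (hcb : c ≠ b) {t : F} (ht : t ≠ 0) (hab : a ≠ b) (hac : a ≠ c)
    (haj : a ≠ j) {d : ι → F} (hd : ∏ i, d i = 1) (hbc : d b = d c) (haj' : d a ≠ d j) (s : F) :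
    ∀ v ∈ EE ρ hcb t, ρ (Tr (Pi.single a 1) (Pi.single j s)) v = v := by
  have h0 : d a / d j - 1 ≠ 0 := by
    rw [sub_ne_zero]
    intro h
    apply haj'
    have := dg_ne hd j
    field_simp at h
    exact h
  have h1 : s = (d a / d j - 1) * ((d a / d j - 1)⁻¹ * s) := by
    rw [← mul_assoc, mul_inv_cancel₀ h0, one_mul]
  rw [h1, ← dg_comm haj hd]
  apply comm_EE hB hcb ht
  · exact Sb_dg hd hbc
  · exact Sb_Tr (single_orth haj _) (Pi.single_eq_of_ne hab.symm _) (Pi.single_eq_of_ne hac.symm _)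

/-- **The non-exceptional case**: the weight line is fixed by the row groups. -/
theorem EE_le (hB : HasB ρ 1) (h3' : Fintype.card ι = 3 → ∃ r : F, r ≠ 0 ∧ r ^ 3 ≠ 1)
    (h4' : Fintype.card ι = 4 → ∃ r : F, r ≠ 0 ∧ r ^ 2 ≠ 1)
    {a b c : ι} (hcb : c ≠ b) (hab : a ≠ b) (hac : a ≠ c) {t : F} (ht : t ≠ 0) :
    EE ρ hcb t ≤ eig ρ (rf a) 1 := by
  apply row_fix
  intro j haj s
  by_cases hjb : j = b
  · subst hjb
    exact EE_col hcb hab hac t s
  -- an auxiliary index
  by_cases hk : ∃ k, k ≠ a ∧ k ≠ b ∧ k ≠ c ∧ k ≠ j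
  · obtain ⟨k, hka, hkb, hkc, hkj⟩ := hk
    exact EE_root hB hcb ht hab hac haj hka hkb hkc hkj s
  push Not at hk
  by_cases hjc : j = c
  · -- card = 3
    subst hjc
    have hcard : Fintype.card ι = 3 := by
      have h1 : (Finset.univ : Finset ι) = {a, b, j} := by
        ext i
        simp only [Finset.mem_univ, Finset.mem_insert, Finset.mem_singleton, true_iff]
        by_contra hcon
        push Not at hcon
        exact hcon.2.2 (hk i hcon.1 hcon.2.1 hcon.2.2)
      rw [← Finset.card_univ, h1, Finset.card_insert_of_notMem, Finset.card_insert_of_notMem, Finset.card_singleton]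
      · rw [Finset.mem_singleton]; exact hcb.symm
      · rw [Finset.mem_insert, Finset.mem_singleton]; push Not; exact ⟨hab, hac⟩
    obtain ⟨r, hr0, hr⟩ := h3' hcard
    have hu : (Finset.univ : Finset ι) = {a, b, j} := by
      ext i
      simp only [Finset.mem_univ, Finset.mem_insert, Finset.mem_singleton, true_iff]
      by_contra hcon
      push Not at hcon
      exact hcon.2.2 (hk i hcon.1 hcon.2.1 hcon.2.2)
    have hd : ∏ i, (if i = a then (r⁻¹ * r⁻¹) else r : F) = 1 := by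
      rw [hu, Finset.prod_insert, Finset.prod_insert, Finset.prod_singleton, if_pos rfl, if_neg hab.symm,
        if_neg hac.symm]
      · field_simp
      · rw [Finset.mem_singleton]; exact hcb.symm
      · rw [Finset.mem_insert, Finset.mem_singleton]; push Not; exact ⟨hab, hac⟩
    refine EE_torus hB hcb ht hab hac haj hd ?_ ?_ s
    · rw [if_neg hab.symm, if_neg hac.symm]
    · rw [if_pos rfl, if_neg hac.symm]
      intro h
      apply hr
      field_simp at h
      rw [← h]
  · -- card = 4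
    have hu : (Finset.univ : Finset ι) = {a, b, c, j} := by
      ext i
      simp only [Finset.mem_univ, Finset.mem_insert, Finset.mem_singleton, true_iff]
      by_contra hcon
      push Not at hcon
      exact hcon.2.2.2 (hk i hcon.1 hcon.2.1 hcon.2.2.1)
    have ha : a ∉ ({b, c, j} : Finset ι) := by
      simp only [Finset.mem_insert, Finset.mem_singleton]; push Not; exact ⟨hab, hac, haj⟩
    have hb : b ∉ ({c, j} : Finset ι) := by
      simp only [Finset.mem_insert, Finset.mem_singleton]; push Not; exact ⟨hcb.symm, fun h => hjb h.symm⟩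
    have hc : c ∉ ({j} : Finset ι) := by
      simp only [Finset.mem_singleton]; exact fun h => hjc h.symm
    have hcard : Fintype.card ι = 4 := by
      rw [← Finset.card_univ, hu, Finset.card_insert_of_notMem ha, Finset.card_insert_of_notMem hb,
        Finset.card_insert_of_notMem hc, Finset.card_singleton]
    obtain ⟨r, hr0, hr⟩ := h4' hcard
    have hd : ∏ i, (if i = a then r⁻¹ else if i = j then r else 1 : F) = 1 := by
      rw [hu, Finset.prod_insert ha, Finset.prod_insert hb, Finset.prod_insert hc, Finset.prod_singleton, if_pos rfl,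
        if_neg hab.symm, if_neg (fun h => hjb h.symm), if_neg hac.symm, if_neg (fun h => hjc h.symm), if_neg haj.symm,
        if_pos rfl]
      field_simp
    refine EE_torus hB hcb ht hab hac haj hd ?_ ?_ s
    · rw [if_neg hab.symm, if_neg (fun h => hjb h.symm), if_neg hac.symm, if_neg (fun h => hjc h.symm)]
    · rw [if_pos rfl, if_neg haj.symm, if_pos rfl]
      intro h
      apply hr
      field_simp at h
      rw [← h]

end Cfsg.Agent.H118.SLStruct
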