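import Cfsg.Agent.H118.SLInt
import Cfsg.Agent.H118.Eig

/-!
# Weights of the row and column groups (helper118)
-/

set_option autoImplicit false
set_option linter.unusedSectionVars false

namespace Cfsg.Agent.H118.SLWt

open Matrix Module Cfsg.Agent.H118.SLTrans Cfsg.Agent.H118.SLInt Cfsg.Agent.H118.Eig

variable {ι F : Type*} [Field F] [Fintype F] [DecidableEq ι] [Fintype ι]

/-- Off `b`. -/
abbrev Off (b : ι) : Type _ := {j : ι // j ≠ b}

/-- The column group. -/
noncomputable def cf (b : ι) (u : Off b → F) : SpecialLinearGroup ι F := Tr (ex (· ≠ b) u) (Pi.single b 1)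

/-- The row group. -/
noncomputable def rf (a : ι) (φ : Off a → F) : SpecialLinearGroup ι F := Tr (Pi.single a 1) (ex (· ≠ a) φ)

theorem single_dot (u : ι → F) (b : ι) : (Pi.single b 1 : ι → F) ⬝ᵥ u = u b := by
  rw [single_dotProduct, one_mul]

theorem dot_single (φ : ι → F) (a : ι) : φ ⬝ᵥ Pi.single a 1 = φ a := by
  rw [dotProduct_single, mul_one]

theorem ex_self (b : ι) (u : Off b → F) : ex (· ≠ b) u b = 0 := ex_of_neg _ _ (fun h => h rfl)

theorem cf_orth (b : ι) (u : Off b → F) : (Pi.single b 1 : ι → F) ⬝ᵥ ex (· ≠ b) u = 0 := by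
  rw [single_dot, ex_self]

theorem rf_orth (b : ι) (u : Off b → F) : ex (· ≠ b) u ⬝ᵥ (Pi.single b 1 : ι → F) = 0 := by
  rw [dot_single, ex_self]

theorem cf_add (b : ι) (u v : Off b → F) : cf b (u + v) = cf b u * cf b v := by
  rw [cf, cf, cf, Tr_mul' (cf_orth b u) (cf_orth b v), ex_add]

theorem rf_add (b : ι) (u v : Off b → F) : rf b (u + v) = rf b u * rf b v := by
  rw [rf, rf, rf, Tr_mul (rf_orth b u) (rf_orth b v), ex_add]

theorem single_ne (b : ι) : (Pi.single b 1 : ι → F) ≠ 0 := by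
  intro h
  have := congrFun h b
  rw [Pi.single_eq_same] at this
  exact one_ne_zero this

theorem card_A (b : ι) : Fintype.card (Off b → F) = Fintype.card F ^ (Fintype.card ι - 1) := by
  rw [Fintype.card_fun]
  congr 1
  rw [Fintype.card_subtype_compl, Fintype.card_subtype_eq]

/-- A nontrivial additive character of `F`. -/
theorem exists_zeta (F : Type*) [Field F] [Fintype F] : ∃ ζ : AddChar F ℂ, ζ 1 ≠ 1 :=
  AddChar.exists_apply_ne_zero.2 one_ne_zero

/-- The fixed additive character. -/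
noncomputable def zt (F : Type*) [Field F] [Fintype F] : AddChar F ℂ := (exists_zeta F).choose

theorem zt_one : zt F 1 ≠ 1 := (exists_zeta F).choose_spec

/-- The character `u ↦ ζ (t u_c)`. -/
noncomputable def wt {κ : Type*} (c : κ) (t : F) : AddChar (κ → F) ℂ where
  toFun u := zt F (t * u c)
  map_zero_eq_one' := by rw [Pi.zero_apply, mul_zero, AddChar.map_zero_eq_one]
  map_add_eq_mul' u v := by rw [Pi.add_apply, mul_add, AddChar.map_add_eq_mul]

theorem wt_apply {κ : Type*} (c : κ) (t : F) (u : κ → F) : wt c t u = zt F (t * u c) := rfl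

theorem wt_ne_one {κ : Type*} [DecidableEq κ] (c : κ) {t : F} (ht : t ≠ 0) : wt c t ≠ (1 : AddChar (κ → F) ℂ) := by
  intro h
  have := DFunLike.congr_fun h (Pi.single c t⁻¹)
  rw [wt_apply, Pi.single_eq_same, mul_inv_cancel₀ ht, AddChar.one_apply] at this
  exact zt_one this

variable {V : Type*} [AddCommGroup V] [Module ℂ V] [FiniteDimensional ℂ V]
  (ρ : Representation ℂ (SpecialLinearGroup ι F) V)

theorem char_const (h3 : 3 ≤ Fintype.card ι) {u φ u' φ' : ι → F} (h : φ ⬝ᵥ u = 0) (h' : φ' ⬝ᵥ u' = 0)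
    (hu : u ≠ 0) (hφ : φ ≠ 0) (hu' : u' ≠ 0) (hφ' : φ' ≠ 0) : ρ.character (Tr u φ) = ρ.character (Tr u' φ') := by
  obtain ⟨c, hc⟩ := isConj_iff.1 (isConj_Tr h3 h h' hu hφ hu' hφ')
  rw [← hc, Representation.char_conj]

theorem exists_hasB (h3 : 3 ≤ Fintype.card ι) : ∃ b : ℕ, HasB ρ b := by
  have : Nontrivial ι := Fintype.one_lt_card_iff_nontrivial.1 (by omega)
  obtain ⟨b, c, hbc⟩ := exists_pair_ne ι
  let c' : Off b := ⟨c, hbc.symm⟩
  have hu0 : (Pi.single c 1 : ι → F) ≠ 0 := single_ne c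
  have horth : (Pi.single b 1 : ι → F) ⬝ᵥ (Pi.single c 1 : ι → F) = 0 := by
    rw [single_dot, Pi.single_eq_of_ne hbc]
  have key := finrank_eig_of_const ρ (cf (F := F) b) (cf_add b) (wt c' (1 : F)) (wt_ne_one c' one_ne_zero)
    (τ := ρ.character (Tr (Pi.single c 1) (Pi.single b 1))) (fun x hx => by
      exact char_const ρ h3 (cf_orth b x) horth (ex_ne_zero _ hx) (single_ne b) hu0 (single_ne b))
  refine ⟨finrank ℂ (eig ρ (cf b) (wt c' (1 : F))), ?_⟩
  intro u φ h hu hφ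
  rw [char_const ρ h3 h horth hu hφ hu0 (single_ne b)]
  rw [card_A] at key
  have h5 : ((Fintype.card F ^ (Fintype.card ι - 1) : ℕ) : ℂ) = (Fintype.card F : ℂ) ^ (Fintype.card ι - 1) := by
    push_cast; rfl
  rw [h5] at key
  rw [key]
  ring

variable {ρ}

theorem HasB.cf_char {b : ℕ} (hb : HasB ρ b) (j : ι) (x : Off j → F) (hx : x ≠ 0) :
    ρ.character (cf j x) = (finrank ℂ V : ℂ) - (Fintype.card F : ℂ) ^ (Fintype.card ι - 1) * b :=
  hb _ _ (cf_orth j x) (ex_ne_zero _ hx) (single_ne j)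

theorem HasB.rf_char {b : ℕ} (hb : HasB ρ b) (j : ι) (x : Off j → F) (hx : x ≠ 0) :
    ρ.character (rf j x) = (finrank ℂ V : ℂ) - (Fintype.card F : ℂ) ^ (Fintype.card ι - 1) * b :=
  hb _ _ (rf_orth j x) (single_ne j) (ex_ne_zero _ hx)

theorem q_pow_ne : (Fintype.card F : ℂ) ^ (Fintype.card ι - 1) ≠ 0 :=
  pow_ne_zero _ (by exact_mod_cast Fintype.card_ne_zero)

theorem HasB.finrank_cf {b : ℕ} (hb : HasB ρ b) (j : ι) (μ : AddChar (Off j → F) ℂ) (hμ : μ ≠ 1) :
    finrank ℂ (eig ρ (cf j) μ) = b := by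
  have key := finrank_eig_of_const ρ (cf (F := F) j) (cf_add j) μ hμ (HasB.cf_char hb j)
  rw [card_A] at key
  push_cast at key
  have h1 : (Fintype.card F : ℂ) ^ (Fintype.card ι - 1) * (finrank ℂ (eig ρ (cf j) μ) : ℂ) =
      (Fintype.card F : ℂ) ^ (Fintype.card ι - 1) * (b : ℂ) := by rw [key]; ring
  exact_mod_cast mul_left_cancel₀ q_pow_ne h1

theorem HasB.finrank_rf {b : ℕ} (hb : HasB ρ b) (j : ι) (μ : AddChar (Off j → F) ℂ) (hμ : μ ≠ 1) :
    finrank ℂ (eig ρ (rf j) μ) = b := by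
  have key := finrank_eig_of_const ρ (rf (F := F) j) (rf_add j) μ hμ (HasB.rf_char hb j)
  rw [card_A] at key
  push_cast at key
  have h1 : (Fintype.card F : ℂ) ^ (Fintype.card ι - 1) * (finrank ℂ (eig ρ (rf j) μ) : ℂ) =
      (Fintype.card F : ℂ) ^ (Fintype.card ι - 1) * (b : ℂ) := by rw [key]; ring
  exact_mod_cast mul_left_cancel₀ q_pow_ne h1

theorem HasB.finrank_cf_fix {b : ℕ} (hb : HasB ρ b) (j : ι) :
    finrank ℂ (eig ρ (cf (F := F) j) 1) + (Fintype.card F ^ (Fintype.card ι - 1) - 1) * b = finrank ℂ V := by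
  have key := finrank_fix_of_const ρ (cf (F := F) j) (cf_add j) (HasB.cf_char hb j)
  rw [card_A] at key
  push_cast at key
  have h0 : 1 ≤ Fintype.card F ^ (Fintype.card ι - 1) := Nat.one_le_pow _ _ Fintype.card_pos
  have h1 : ((finrank ℂ (eig ρ (cf (F := F) j) 1) + (Fintype.card F ^ (Fintype.card ι - 1) - 1) * b : ℕ) : ℂ) =
      (finrank ℂ V : ℂ) := by
    apply mul_left_cancel₀ (q_pow_ne (ι := ι) (F := F))
    push_cast [Nat.cast_sub h0]
    rw [mul_add, key]
    ring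
  exact_mod_cast h1

theorem HasB.finrank_rf_fix {b : ℕ} (hb : HasB ρ b) (j : ι) :
    finrank ℂ (eig ρ (rf (F := F) j) 1) + (Fintype.card F ^ (Fintype.card ι - 1) - 1) * b = finrank ℂ V := by
  have key := finrank_fix_of_const ρ (rf (F := F) j) (rf_add j) (HasB.rf_char hb j)
  rw [card_A] at key
  push_cast at key
  have h0 : 1 ≤ Fintype.card F ^ (Fintype.card ι - 1) := Nat.one_le_pow _ _ Fintype.card_pos
  have h1 : ((finrank ℂ (eig ρ (rf (F := F) j) 1) + (Fintype.card F ^ (Fintype.card ι - 1) - 1) * b : ℕ) : ℂ) =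
      (finrank ℂ V : ℂ) := by
    apply mul_left_cancel₀ (q_pow_ne (ι := ι) (F := F))
    push_cast [Nat.cast_sub h0]
    rw [mul_add, key]
    ring
  exact_mod_cast h1

end Cfsg.Agent.H118.SLWt
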