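import Mathlib

set_option autoImplicit false

namespace Cfsg.Agent.H118.TwoByTwo

open Matrix

/-- Counting conjugacy classes with a complete surjective invariant. -/
theorem card_conjClasses_of_invariant {G X : Type*} [Group G] (f : G → X)
    (hsurj : Function.Surjective f) (hf : ∀ g h : G, f g = f h ↔ IsConj g h) :
    Nat.card (ConjClasses G) = Nat.card X := by
  let F : ConjClasses G → X := Quotient.lift f (fun a b hab => (hf a b).2 hab)
  refine Nat.card_eq_of_bijective F ⟨?_, ?_⟩
  · intro a b
    induction a using Quotient.inductionOn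
    induction b using Quotient.inductionOn
    intro h
    exact Quotient.sound ((hf _ _).1 h)
  · intro x
    obtain ⟨g, rfl⟩ := hsurj x
    exact ⟨ConjClasses.mk g, rfl⟩

variable {F : Type*} [Field F]

/-- The companion matrix of `X² - t X + d`. -/
def cmat (t d : F) : Matrix (Fin 2) (Fin 2) F := !![0, -d; 1, t]

/-- A non-scalar `2 × 2` matrix is similar to the companion matrix of its characteristic polynomial. -/
theorem exists_basis (g : Matrix (Fin 2) (Fin 2) F) (hg : ∀ a : F, g ≠ a • (1 : Matrix (Fin 2) (Fin 2) F)) :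
    ∃ P : Matrix (Fin 2) (Fin 2) F, P.det ≠ 0 ∧ g * P = P * cmat g.trace g.det := by
  by_cases hc : g 1 0 = 0
  · by_cases hb : g 0 1 = 0
    · have had : g 0 0 ≠ g 1 1 := by
        intro h
        apply hg (g 0 0)
        ext i j
        fin_cases i <;> fin_cases j <;> simp [hb, hc, h]
      refine ⟨!![1, g 0 0; 1, g 1 1], ?_, ?_⟩
      · rw [Matrix.det_fin_two_of]
        intro h
        apply had
        linear_combination -h
      · ext i j
        fin_cases i <;> fin_cases j <;>
          simp [cmat, Matrix.mul_apply, Fin.sum_univ_two, Matrix.trace_fin_two, Matrix.det_fin_two, hb, hc] <;> ring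
    · refine ⟨!![0, g 0 1; 1, g 1 1], ?_, ?_⟩
      · rw [Matrix.det_fin_two_of]
        intro h
        apply hb
        linear_combination -h
      · ext i j
        fin_cases i <;> fin_cases j <;>
          simp [cmat, Matrix.mul_apply, Fin.sum_univ_two, Matrix.trace_fin_two, Matrix.det_fin_two, hc] <;> ring
  · refine ⟨!![1, g 0 0; 0, g 1 0], ?_, ?_⟩
    · rw [Matrix.det_fin_two_of]
      intro h
      apply hc
      linear_combination h
    · ext i j
      fin_cases i <;> fin_cases j <;>
        simp [cmat, Matrix.mul_apply, Fin.sum_univ_two, Matrix.trace_fin_two, Matrix.det_fin_two] <;> ring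

/-- Two non-scalar `2 × 2` invertible matrices with the same trace and determinant are conjugate in `GL₂`. -/
theorem isConj_of_trace_det (g h : GL (Fin 2) F)
    (hg : ∀ a : F, (g : Matrix (Fin 2) (Fin 2) F) ≠ a • (1 : Matrix (Fin 2) (Fin 2) F))
    (hh : ∀ a : F, (h : Matrix (Fin 2) (Fin 2) F) ≠ a • (1 : Matrix (Fin 2) (Fin 2) F))
    (ht : (g : Matrix (Fin 2) (Fin 2) F).trace = (h : Matrix (Fin 2) (Fin 2) F).trace)
    (hd : (g : Matrix (Fin 2) (Fin 2) F).det = (h : Matrix (Fin 2) (Fin 2) F).det) : IsConj g h := by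
  obtain ⟨P, hP, hPg⟩ := exists_basis _ hg
  obtain ⟨Q, hQ, hQh⟩ := exists_basis _ hh
  let P' : GL (Fin 2) F := Matrix.GeneralLinearGroup.mkOfDetNeZero P hP
  let Q' : GL (Fin 2) F := Matrix.GeneralLinearGroup.mkOfDetNeZero Q hQ
  have hcdet : (cmat (g : Matrix (Fin 2) (Fin 2) F).trace (g : Matrix (Fin 2) (Fin 2) F).det).det ≠ 0 := by
    have := congrArg Matrix.det hPg
    rw [Matrix.det_mul, Matrix.det_mul] at this
    have hg0 : (g : Matrix (Fin 2) (Fin 2) F).det ≠ 0 := by
      have := g.det.ne_zero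
      simpa using this
    intro h0
    rw [h0, mul_zero] at this
    exact (mul_ne_zero hg0 hP) this
  let C' : GL (Fin 2) F := Matrix.GeneralLinearGroup.mkOfDetNeZero _ hcdet
  have h1 : g * P' = P' * C' := by
    apply Units.ext
    exact hPg
  have h2 : h * Q' = Q' * C' := by
    apply Units.ext
    have : (C' : Matrix (Fin 2) (Fin 2) F) =
        cmat (h : Matrix (Fin 2) (Fin 2) F).trace (h : Matrix (Fin 2) (Fin 2) F).det := by
      change cmat (g : Matrix (Fin 2) (Fin 2) F).trace (g : Matrix (Fin 2) (Fin 2) F).det = _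
      rw [ht, hd]
    change (h : Matrix (Fin 2) (Fin 2) F) * Q = Q * (C' : Matrix (Fin 2) (Fin 2) F)
    rw [this]
    exact hQh
  rw [isConj_iff]
  refine ⟨Q' * P'⁻¹, ?_⟩
  have h3 : g = P' * C' * P'⁻¹ := by rw [← h1]; group
  have h4 : h = Q' * C' * Q'⁻¹ := by rw [← h2]; group
  rw [h3, h4]
  group

/-- Conjugate elements of `GL₂` have the same trace. -/
theorem trace_eq_of_isConj {g h : GL (Fin 2) F} (hgh : IsConj g h) :
    (g : Matrix (Fin 2) (Fin 2) F).trace = (h : Matrix (Fin 2) (Fin 2) F).trace := by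
  obtain ⟨c, rfl⟩ := isConj_iff.1 hgh
  rw [Units.val_mul, Units.val_mul, Matrix.trace_mul_cycle]
  simp

/-- Conjugate elements of `GL₂` have the same determinant. -/
theorem det_eq_of_isConj {g h : GL (Fin 2) F} (hgh : IsConj g h) :
    Matrix.GeneralLinearGroup.det g = Matrix.GeneralLinearGroup.det h := by
  obtain ⟨c, rfl⟩ := isConj_iff.1 hgh
  rw [map_mul, map_mul, map_inv, mul_comm, ← mul_assoc]
  simp

end Cfsg.Agent.H118.TwoByTwo
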